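import Cfsg.Agent.Lib.ElemOrder.Bounds

/-!
Small exponents of matrices whose characteristic polynomial has symmetries.
-/

set_option autoImplicit false
set_option linter.unusedSectionVars false

namespace CfsgLib.ElemOrder

open Polynomial Matrix Function

variable {F : Type*} [Field F] {n : Type*} [Fintype n] [DecidableEq n]

/-- The eigenvalues in an algebraic closure, with multiplicity. -/
noncomputable def croots (M : Matrix n n F) : Multiset (AlgebraicClosure F) :=
  (M.charpoly.map (algebraMap F (AlgebraicClosure F))).roots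

theorem croots_splits (M : Matrix n n F) :
    (M.charpoly.map (algebraMap F (AlgebraicClosure F))).Splits := IsAlgClosed.splits _

theorem croots_card (M : Matrix n n F) : (croots M).card = Fintype.card n := by
  rw [croots, ← (croots_splits M).natDegree_eq_card_roots, Polynomial.natDegree_map,
    Matrix.charpoly_natDegree_eq_dim]

theorem croots_prod (M : Matrix n n F) :
    (croots M).prod = algebraMap F (AlgebraicClosure F) M.det := by
  rw [RingHom.map_det, RingHom.mapMatrix_apply, Matrix.det_eq_prod_roots_charpoly,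
    Matrix.charpoly_map, croots]

theorem zero_notMem_croots {M : Matrix n n F} (h : M.det ≠ 0) :
    (0 : AlgebraicClosure F) ∉ croots M := fun h0 =>
  h (by simpa [croots_prod] using Multiset.prod_eq_zero h0)

theorem eq_prod_croots (M : Matrix n n F) :
    M.charpoly.map (algebraMap F (AlgebraicClosure F)) =
      ((croots M).map fun a => X - C a).prod :=
  (croots_splits M).eq_prod_roots_of_monic (M.charpoly_monic.map _)

open scoped Classical in
theorem pow_eq_scalar (p : ℕ) [Fact p.Prime] [CharP F p] (M : Matrix n n F) {k c : ℕ} (hk : 0 < k)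
    (lam : F) (hroot : ∀ a ∈ croots M, a ^ k = algebraMap F (AlgebraicClosure F) lam)
    (hcount : ∀ a, (croots M).count a ≤ p ^ c) :
    M ^ (k * p ^ c) = scalar n (lam ^ p ^ c) := by
  classical
  cases isEmpty_or_nonempty n
  · exact Subsingleton.elim _ _
  set K := AlgebraicClosure F
  have hdvd : M.charpoly ∣ (X ^ k - C lam : F[X]) ^ p ^ c := by
    rw [← map_dvd_map' (algebraMap F K), eq_prod_croots, Finset.prod_multiset_map_count]
    refine dvd_trans (Finset.prod_dvd_prod_of_dvd _ (fun a => (X - C a) ^ p ^ c)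
      fun a _ => pow_dvd_pow _ (hcount a)) ?_
    rw [Finset.prod_pow, Polynomial.map_pow]
    refine pow_dvd_pow_of_dvd ?_ _
    have hne : (X ^ k - C lam : F[X]).map (algebraMap F K) ≠ 0 :=
      (Polynomial.map_ne_zero (X_pow_sub_C_ne_zero hk lam))
    refine (Multiset.prod_X_sub_C_dvd_iff_le_roots hne (croots M).toFinset.val).2 ?_
    refine (Multiset.le_iff_subset (Finset.nodup _)).2 fun a ha => ?_
    rw [mem_roots hne, IsRoot.def, eval_map]
    simp only [eval₂_sub, eval₂_pow, eval₂_X, eval₂_C]
    exact sub_eq_zero.2 (hroot a (Multiset.mem_toFinset.1 ha))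
  obtain ⟨t, ht⟩ := hdvd
  have h := congrArg (aeval M) ht
  rw [map_mul, Matrix.aeval_self_charpoly, zero_mul, sub_pow_char_pow, map_sub, sub_eq_zero,
    ← pow_mul, ← C_pow] at h
  simpa [Matrix.algebraMap_eq_diagonal, Matrix.scalar_apply, diagonal_pow, Pi.algebraMap_def, Pi.pow_def] using h

theorem croots_map_ringHom (M : Matrix n n F) (σ : F →+* F) (φ : AlgebraicClosure F →+* AlgebraicClosure F)
    (hφ : ∀ x, φ (algebraMap F _ x) = algebraMap F _ (σ x)) :
    (croots M).map φ = croots (M.map σ) := by
  rw [croots, croots, Polynomial.roots_map_of_injective_of_card_eq_natDegree φ.injective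
    ((croots_splits M).natDegree_eq_card_roots).symm, Polynomial.map_map, Matrix.charpoly_map,
    Polynomial.map_map]
  congr 2
  exact RingHom.ext hφ

theorem croots_pow (p : ℕ) [Fact p.Prime] [CharP F p] (s : ℕ) (M : Matrix n n F) (σ : F →+* F)
    (hσ : ∀ x, σ x = x ^ p ^ s) :
    (croots M).map (fun a => a ^ p ^ s) = croots (M.map σ) := by
  have : CharP (AlgebraicClosure F) p := charP_of_injective_algebraMap (algebraMap F _).injective p
  rw [← croots_map_ringHom M σ (iterateFrobenius (AlgebraicClosure F) p s) fun x => by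
    rw [iterateFrobenius_def, hσ, map_pow]]
  exact Multiset.map_congr rfl fun a _ => (iterateFrobenius_def p s a).symm

theorem pow_injective_closure (p : ℕ) [Fact p.Prime] [CharP F p] (s : ℕ) :
    Injective fun a : AlgebraicClosure F => a ^ p ^ s := by
  have : CharP (AlgebraicClosure F) p := charP_of_injective_algebraMap (algebraMap F _).injective p
  exact fun a b h => (iterateFrobenius (AlgebraicClosure F) p s).injective
    (by simpa [iterateFrobenius_def] using h)

theorem twist_injective_closure (p : ℕ) [Fact p.Prime] [CharP F p] (s : ℕ) :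
    Injective fun a : AlgebraicClosure F => (a ^ p ^ s)⁻¹ :=
  inv_injective.comp (pow_injective_closure p s)

theorem roots_reverse_prod {K : Type*} [Field K] :
    ∀ R : Multiset K, (0 : K) ∉ R → ∃ c : K, c ≠ 0 ∧
      (R.map fun a => X - C a).prod.reverse = C c * ((R.map fun a => a⁻¹).map fun b => X - C b).prod := by
  intro R
  induction R using Multiset.induction with
  | empty => intro; exact ⟨1, one_ne_zero, by rw [Multiset.map_zero, Multiset.prod_zero, ← C_1, reverse_C]; simp⟩
  | cons a R ih =>
    intro h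
    rw [Multiset.mem_cons, not_or] at h
    obtain ⟨c, hc, he⟩ := ih h.2
    have ha : a ≠ 0 := Ne.symm h.1
    refine ⟨-a * c, mul_ne_zero (neg_ne_zero.2 ha) hc, ?_⟩
    rw [Multiset.map_cons, Multiset.prod_cons, reverse_mul_of_domain, he, Multiset.map_cons,
      Multiset.map_cons, Multiset.prod_cons]
    have hr : (X - C a).reverse = C (-a) * (X - C a⁻¹) := by
      rw [mul_sub, ← C_mul, neg_mul, mul_inv_cancel₀ ha]
      ext i
      rw [coeff_reverse, natDegree_X_sub_C]
      rcases i with _ | _ | i
      · rw [revAt_le (Nat.zero_le _)]; simp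
      · rw [revAt_le le_rfl]; simp [coeff_one]
      · rw [revAt_eq_self_of_lt (by omega)]; simp [coeff_X, coeff_one]
    rw [hr, C_mul]
    ring

theorem croots_inv {M : Matrix n n F} (h : M.det ≠ 0) :
    croots M⁻¹ = (croots M).map fun a => a⁻¹ := by
  classical
  set K := AlgebraicClosure F
  set A := M.map (algebraMap F K)
  have hA : A.charpoly = ((croots M).map fun a => X - C a).prod := by
    rw [Matrix.charpoly_map]; exact eq_prod_croots M
  have hM : IsUnit M.det := isUnit_iff_ne_zero.2 h
  have hinv : M⁻¹.map (algebraMap F K) = A⁻¹ := by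
    symm
    apply Matrix.inv_eq_left_inv
    rw [← Matrix.map_mul, Matrix.nonsing_inv_mul _ hM, Matrix.map_one _ (map_zero _) (map_one _)]
  have hAu : IsUnit A := (Matrix.isUnit_iff_isUnit_det A).2 (by
    rw [show A = (algebraMap F K).mapMatrix M from rfl, ← RingHom.map_det]
    exact hM.map _)
  obtain ⟨c, hc, he⟩ := roots_reverse_prod (croots M) (zero_notMem_croots h)
  rw [croots, ← Matrix.charpoly_map, hinv, Matrix.charpoly_inv _ hAu, ← Matrix.reverse_charpoly, hA,
    he, Ring.inverse_eq_inv']
  have hne : ((-1 : K) ^ Fintype.card n * (A.det)⁻¹ * c) ≠ 0 :=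
    mul_ne_zero (mul_ne_zero (pow_ne_zero _ (neg_ne_zero.2 one_ne_zero))
      (inv_ne_zero ((Matrix.isUnit_iff_isUnit_det A).1 hAu).ne_zero)) hc
  rw [show ((-1 : K[X]) ^ Fintype.card n) = C ((-1 : K) ^ Fintype.card n) by simp, ← C_mul,
    ← mul_assoc, ← C_mul, roots_C_mul _ hne, roots_multiset_prod_X_sub_C]

theorem exists_algebraMap_of_pow_card [Fintype F] (a : AlgebraicClosure F)
    (ha : a ^ Fintype.card F = a) : ∃ x : F, algebraMap F _ x = a := by
  classical
  have hq : 1 < Fintype.card F := Fintype.one_lt_card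
  set P : (AlgebraicClosure F)[X] := X ^ Fintype.card F - X
  have hP : P ≠ 0 := FiniteField.X_pow_card_sub_X_ne_zero _ hq
  set img := (Finset.univ : Finset F).image (algebraMap F (AlgebraicClosure F))
  have hroot : ∀ b ∈ insert a img, IsRoot P b := by
    intro b hb
    rcases Finset.mem_insert.1 hb with rfl | hb
    · simp [P, ha]
    · obtain ⟨x, -, rfl⟩ := Finset.mem_image.1 hb
      simp [P, ← map_pow, FiniteField.pow_card]
  by_contra hx
  have hle : (insert a img).val ≤ P.roots :=
    (Multiset.le_iff_subset (Finset.nodup _)).2 fun b hb => (mem_roots hP).2 (hroot b hb)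
  have h := (Multiset.card_le_card hle).trans P.card_roots'
  rw [Finset.card_val, Finset.card_insert_of_notMem (fun h => hx (by
    obtain ⟨x, -, hx⟩ := Finset.mem_image.1 h; exact ⟨x, hx⟩)),
    Finset.card_image_of_injective _ (algebraMap F (AlgebraicClosure F)).injective, Finset.card_univ,
    FiniteField.X_pow_card_sub_X_natDegree_eq _ hq] at h
  omega

theorem neg_one_ne_one_odd (p : ℕ) [Fact p.Prime] [CharP F p] (s : ℕ)
    (h : (-1 : AlgebraicClosure F) ≠ 1) : Odd (p ^ s) := by
  have : CharP (AlgebraicClosure F) p := charP_of_injective_algebraMap (algebraMap F _).injective p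
  refine ((Nat.Prime.eq_two_or_odd' Fact.out).resolve_left ?_).pow
  rintro rfl
  exact h (CharTwo.neg_eq 1)

/-! ### The exponents -/

section Exponent

variable (p : ℕ) [hp : Fact p.Prime] [CharP F p] {s : ℕ} (hs : 1 ≤ s) (σ : F →+* F)
  (hσ : ∀ x, σ x = x ^ p ^ s) (M : Matrix n n F) (hM : M.det ≠ 0)

include hs hσ hM in
/-- Characteristic polynomial over the fixed field. -/
theorem linear_exponent [Fintype F] [Nonempty n] (m : ℕ) (hq : Fintype.card F = (p ^ s) ^ m)
    (hfix : (M.map σ).charpoly = M.charpoly) :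
    ∃ N, 0 < N ∧ (∃ r : F, M ^ N = scalar n r) ∧ (p ^ s - 1) * N ≤ (p ^ s) ^ Fintype.card n - 1 := by
  classical
  have hne : croots M ≠ 0 := fun h => by
    have := croots_card M; rw [h] at this; simp at this; exact Fintype.card_ne_zero this.symm
  obtain ⟨k, c, lam, hk, hlam, hc, hroot, hb⟩ := linear_bound hp.out.two_le
    (Nat.le_self_pow (by omega) p) (pow_injective_closure p s) (croots M) hne (zero_notMem_croots hM)
    (by rw [croots_pow p s M σ hσ, croots, croots, hfix])
  obtain ⟨r, hr⟩ := exists_algebraMap_of_pow_card lam (by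
    rw [hq]
    clear hb hq
    induction m with
    | zero => simp
    | succ m ih => rw [pow_succ, pow_mul, ih, hlam])
  refine ⟨k * p ^ c, Nat.mul_pos hk (pow_pos hp.out.pos _), ⟨_, pow_eq_scalar p M hk r
    (fun a ha => by rw [hroot a ha, hr]) hc⟩, ?_⟩
  rwa [croots_card] at hb

include hs hσ hM in
/-- Characteristic polynomial twisted by inversion. -/
theorem twisted_exponent [Nonempty n] (hfix : (M.map σ).charpoly = (M⁻¹).charpoly) :
    ∃ N, 0 < N ∧ M ^ N = 1 ∧ (p ^ s - 1) * N < (p ^ s) ^ (Fintype.card n + 1) := by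
  classical
  have hne : croots M ≠ 0 := fun h => by
    have := croots_card M; rw [h] at this; simp at this; exact Fintype.card_ne_zero this.symm
  obtain ⟨k, c, hk, hc, hroot, hb⟩ := twisted_bound hp.out.two_le
    (Nat.le_self_pow (by omega) p) (twist_injective_closure p s) (croots M) hne
    (zero_notMem_croots hM) (by
      have h : (croots M).map (fun a => a ^ p ^ s) = (croots M).map fun a => a⁻¹ := by
        rw [croots_pow p s M σ hσ, ← croots_inv hM, croots, croots, hfix]
      have h2 := congrArg (Multiset.map fun a => a⁻¹) h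
      simpa [Multiset.map_map, Function.comp_def] using h2)
  refine ⟨k * p ^ c, Nat.mul_pos hk (pow_pos hp.out.pos _), ?_, by rwa [croots_card] at hb⟩
  rw [pow_eq_scalar p M hk 1 (fun a ha => by rw [hroot a ha, map_one]) hc, one_pow, map_one]

include hs hσ hM in
/-- Self-reciprocal characteristic polynomial, determinant one. -/
theorem selfrec_exponent (hfix : (M.map σ).charpoly = M.charpoly)
    (hinv : (M⁻¹).charpoly = M.charpoly) (hdet : M.det = 1) {B : ℕ} (hB : Fintype.card n ≤ 2 * B) :
    ∃ N, 0 < N ∧ (M ^ N = 1 ∨ M ^ N = scalar n (-1)) ∧ (p ^ s - 1) * N < (p ^ s) ^ (B + 1) := by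
  classical
  set R := croots M
  have hi : (R.map fun a => a⁻¹) = R := by rw [← croots_inv hM, croots, hinv]; rfl
  have h0 := zero_notMem_croots hM
  have hcnt := card_eq_weights R h0
  rw [croots_card] at hcnt
  obtain ⟨u, hu⟩ := even_offWeight R hi
  obtain ⟨w, hw⟩ := even_negMult R h0 hi (by rw [croots_prod, hdet, map_one])
  have hp2 := hp.out.two_le
  have hm2 := two_clog_le (p := p) hp2 (M := negMult R) (by omega) (Or.inr ⟨w, hw⟩)
  have hm1 := two_clog_le_succ hp2 (R.count 1)
  obtain ⟨k, c, lam, hk, hlam, hc, hroot, hb⟩ := selfrec_bound R h0 hi hp2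
    (Nat.le_self_pow (by omega : s ≠ 0) p) (neg_one_ne_one_odd p s) (pow_injective_closure p s)
    (by rw [croots_pow p s M σ hσ, croots, hfix]; rfl) (B := B) (by omega)
    (by
      by_cases h : R.count 1 + offWeight R + 1 ≤ 2 * B
      · omega
      · have : Even (R.count 1) ∨ R.count 1 + offWeight R + 1 ≤ 2 * B := Or.inl (by
          rcases Nat.even_or_odd (R.count 1) with he | ho
          · exact he
          · obtain ⟨t, ht⟩ := ho; omega)
        have := two_clog_le (p := p) hp2 (M := R.count 1) (fun h1 => by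
          rcases this with he | h'
          · rw [h1] at he; exact absurd he (by decide)
          · exact h h') (Or.inr (this.resolve_right h))
        omega)
    (by omega)
    (fun h1 h2 => by
      have hcB : Nat.clog p (max (R.count 1) (negMult R)) ≤ B - 1 := by
        rcases max_choice (R.count 1) (negMult R) with h | h <;> rw [h] <;> omega
      have hB1 : 1 ≤ B := by omega
      have hq2 : 2 ≤ p ^ s := hp2.trans (Nat.le_self_pow (by omega) p)
      calc 2 * (p ^ s - 1) * p ^ Nat.clog p (max (R.count 1) (negMult R))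
          ≤ 2 * (p ^ s - 1) * (p ^ s) ^ (B - 1) := Nat.mul_le_mul_left _
            ((Nat.pow_le_pow_right hp.out.pos hcB).trans
              (Nat.pow_le_pow_left (Nat.le_self_pow (by omega) p) _))
        _ < (p ^ s * p ^ s) * (p ^ s) ^ (B - 1) := by
            refine Nat.mul_lt_mul_of_pos_right ?_ (pow_pos (by omega) _)
            calc 2 * (p ^ s - 1) < 2 * p ^ s := by omega
              _ ≤ _ := Nat.mul_le_mul_right _ hq2
        _ = _ := by rw [mul_assoc, ← pow_succ', ← pow_succ']; congr 1; omega)
  have hN : ∀ r : F, algebraMap F (AlgebraicClosure F) r = lam →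
      M ^ (k * p ^ c) = scalar n (r ^ p ^ c) := fun r hr =>
    pow_eq_scalar p M hk r (fun a ha => by rw [hroot a ha, hr]) hc
  refine ⟨k * p ^ c, Nat.mul_pos hk (pow_pos hp.out.pos _), ?_, hb⟩
  rcases hlam with rfl | rfl
  · left; rw [hN 1 (map_one _), one_pow, map_one]
  · rw [hN (-1) (by simp)]
    rcases neg_one_pow_eq_or F (p ^ c) with h | h <;> rw [h]
    · left; rw [map_one]
    · right; rfl

include hs hσ hM in
/-- Self-reciprocal characteristic polynomial in odd dimension and odd characteristic. -/
theorem selfrec_exponent_odd (hp3 : 3 ≤ p) (hfix : (M.map σ).charpoly = M.charpoly)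
    (hinv : (M⁻¹).charpoly = M.charpoly) (hdet : M.det = 1) {m : ℕ} (hm : 3 ≤ m)
    (hd : Fintype.card n = 2 * m + 1) :
    ∃ N, 0 < N ∧ (M ^ N = 1 ∨ M ^ N = scalar n (-1)) ∧ (p ^ s - 1) * N < (p ^ s) ^ (m + 1) := by
  classical
  set R := croots M
  have hi : (R.map fun a => a⁻¹) = R := by rw [← croots_inv hM, croots, hinv]; rfl
  have h0 := zero_notMem_croots hM
  have hcnt := card_eq_weights R h0
  rw [croots_card] at hcnt
  obtain ⟨u, hu⟩ := even_offWeight R hi
  obtain ⟨w, hw⟩ := even_negMult R h0 hi (by rw [croots_prod, hdet, map_one])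
  have hp2 := hp.out.two_le
  have hm2 := two_clog_le (p := p) hp2 (M := negMult R) (by omega) (Or.inr ⟨w, hw⟩)
  obtain ⟨k, c, lam, hk, hlam, hc, hroot, hb⟩ := selfrec_bound R h0 hi hp2
    (Nat.le_self_pow (by omega : s ≠ 0) p) (neg_one_ne_one_odd p s) (pow_injective_closure p s)
    (by rw [croots_pow p s M σ hσ, croots, hfix]; rfl) (B := m) (by omega)
    (by
      rcases eq_or_ne (R.count 1) 1 with h | h
      · rw [h, Nat.clog_one_right]; omega
      · have := two_clog_le (p := p) hp2 h (Or.inl hp3); omega)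
    (by omega)
    (fun _ _ => by
      have hq2 : 2 ≤ p ^ s := hp2.trans (Nat.le_self_pow (by omega) p)
      have h3 : 2 * m + 1 ≤ 3 ^ (m - 1) := by
        obtain ⟨t, rfl⟩ : ∃ t, m = t + 3 := ⟨m - 3, by omega⟩
        clear * -
        induction t with
        | zero => norm_num
        | succ t ih =>
          rw [show t + 1 + 3 - 1 = (t + 3 - 1) + 1 by omega, pow_succ]
          omega
      have hcB : Nat.clog p (max (R.count 1) (negMult R)) ≤ m - 1 :=
        Nat.clog_le_of_le_pow ((show max (R.count 1) (negMult R) ≤ 2 * m + 1 by omega).trans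
          (h3.trans (Nat.pow_le_pow_left hp3 _)))
      calc 2 * (p ^ s - 1) * p ^ Nat.clog p (max (R.count 1) (negMult R))
          ≤ 2 * (p ^ s - 1) * (p ^ s) ^ (m - 1) := Nat.mul_le_mul_left _
            ((Nat.pow_le_pow_right hp.out.pos hcB).trans
              (Nat.pow_le_pow_left (Nat.le_self_pow (by omega) p) _))
        _ < (p ^ s * p ^ s) * (p ^ s) ^ (m - 1) := by
            refine Nat.mul_lt_mul_of_pos_right ?_ (pow_pos (by omega) _)
            calc 2 * (p ^ s - 1) < 2 * p ^ s := by omega
              _ ≤ _ := Nat.mul_le_mul_right _ hq2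
        _ = _ := by rw [mul_assoc, ← pow_succ', ← pow_succ']; congr 1; omega)
  have hN : ∀ r : F, algebraMap F (AlgebraicClosure F) r = lam →
      M ^ (k * p ^ c) = scalar n (r ^ p ^ c) := fun r hr =>
    pow_eq_scalar p M hk r (fun a ha => by rw [hroot a ha, hr]) hc
  refine ⟨k * p ^ c, Nat.mul_pos hk (pow_pos hp.out.pos _), ?_, hb⟩
  rcases hlam with rfl | rfl
  · left; rw [hN 1 (map_one _), one_pow, map_one]
  · rw [hN (-1) (by simp)]
    rcases neg_one_pow_eq_or F (p ^ c) with h | h <;> rw [h]
    · left; rw [map_one]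
    · right; rfl

include hs hσ hM in
/-- Dimension three, self-reciprocal. -/
theorem selfrec_exponent_three (hq3 : 3 ≤ p ^ s) (hd : Fintype.card n = 3)
    (hfix : (M.map σ).charpoly = M.charpoly) (hinv : (M⁻¹).charpoly = M.charpoly) (hdet : M.det = 1) :
    ∃ N, 0 < N ∧ M ^ N = 1 ∧ 2 * (p ^ s - 1) * N ≤ (p ^ s) ^ 3 - 1 := by
  classical
  obtain ⟨k, c, hk, hc, hroot, hb⟩ := selfrec_three (croots M) (zero_notMem_croots hM)
    (by rw [← croots_inv hM, croots, hinv]; rfl) hp.out.two_le (Nat.le_self_pow (by omega) p) hq3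
    (pow_injective_closure p s) (by rw [croots_pow p s M σ hσ, croots, hfix]; rfl)
    (by rw [croots_card, hd]) (by rw [croots_prod, hdet, map_one])
  refine ⟨k * p ^ c, Nat.mul_pos hk (pow_pos hp.out.pos _), ?_, hb⟩
  rw [pow_eq_scalar p M hk 1 (fun a ha => by rw [hroot a ha, map_one]) hc, one_pow, map_one]

end Exponent

/-- Dimension three over the field with four elements, twisted. -/
theorem twisted_exponent_three [Fintype F] [CharP F 2] (hq : Fintype.card F = 4) (σ : F →+* F)
    (hσ : ∀ x, σ x = x ^ 2) (M : Matrix n n F) (hM : M.det ≠ 0) (hd : Fintype.card n = 3)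
    (hfix : (M.map σ).charpoly = (M⁻¹).charpoly) :
    ∃ N, 0 < N ∧ (∃ r : F, M ^ N = scalar n r) ∧ N ≤ 10 := by
  classical
  have : Fact (Nat.Prime 2) := ⟨Nat.prime_two⟩
  obtain ⟨k, c, lam, hk, hlam, hc, hroot, hb⟩ :=
    twisted_three (by simpa using twist_injective_closure (F := F) 2 1) (croots M)
      (zero_notMem_croots hM) (by
        have h : (croots M).map (fun a => a ^ 2 ^ 1) = (croots M).map fun a => a⁻¹ := by
          rw [croots_pow 2 1 M σ (by simpa using hσ), ← croots_inv hM, croots, croots, hfix]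
        have h2 := congrArg (Multiset.map fun a => a⁻¹) h
        simpa [Multiset.map_map, Function.comp_def] using h2)
      (by rw [croots_card, hd])
  obtain ⟨r, hr⟩ := exists_algebraMap_of_pow_card lam (by rw [hq, hlam])
  exact ⟨k * 2 ^ c, Nat.mul_pos hk (by positivity),
    ⟨_, pow_eq_scalar 2 M hk r (fun a ha => by rw [hroot a ha, hr]) hc⟩, hb⟩

end CfsgLib.ElemOrder
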