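import Mathlib

/-!
Bounding a common multiple of numbers of the shape `q ^ e ± 1` in terms of `q ^ (Σ e)`.
-/

set_option autoImplicit false

namespace CfsgLib.ElemOrder

open Finset

theorem odd_part_pow_succ_dvd (q : ℕ) {v k : ℕ} (hk : Odd k) :
    q ^ 2 ^ v + 1 ∣ q ^ (2 ^ v * k) + 1 := by
  rw [pow_mul]
  simpa using Odd.nat_add_dvd_pow_add_pow (q ^ 2 ^ v) 1 hk

theorem pow_div_le {q : ℕ} (hq : 2 ≤ q) {a e : ℕ} (hae : a ≤ e) :
    (q ^ e + 1) / (q ^ a + 1) ≤ q ^ (e - a) := by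
  apply Nat.div_le_of_le_mul
  rw [add_mul, one_mul, ← pow_add, Nat.add_sub_cancel' hae]
  have := Nat.one_le_pow (e - a) q (by omega)
  omega

theorem prod_fermat (q N : ℕ) :
    (q - 1) * ∏ v ∈ range N, (q ^ 2 ^ v + 1) = q ^ 2 ^ N - 1 := by
  induction N with
  | zero => simp
  | succ N ih =>
    rw [prod_range_succ, ← mul_assoc, ih, pow_succ 2 N, pow_mul, sq]
    have h := Nat.mul_self_sub_mul_self_eq (q ^ 2 ^ N) 1
    rw [Nat.mul_one] at h
    rw [h, mul_comm]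

theorem fermat_bound {q : ℕ} (hq : 2 ≤ q) (T : Finset ℕ) :
    (q - 1) * ∏ v ∈ T, (q ^ 2 ^ v + 1) < q ^ ((∑ v ∈ T, 2 ^ v) + 1) := by
  obtain ⟨N, hN⟩ := T.exists_nat_subset_range
  have h1 : q ^ (∑ v ∈ range N \ T, 2 ^ v) ≤ ∏ v ∈ range N \ T, (q ^ 2 ^ v + 1) := by
    rw [← prod_pow_eq_pow_sum]
    exact prod_le_prod' fun v _ => Nat.le_succ _
  have h2 := prod_fermat q N
  have hs : (∑ v ∈ range N, 2 ^ v) + 1 = 2 ^ N := by
    have h := Nat.geomSum_eq (le_refl 2) N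
    have := Nat.one_le_two_pow (n := N)
    omega
  rw [← prod_sdiff hN] at h2
  rw [← sum_sdiff hN, add_assoc] at hs
  set A := ∏ v ∈ range N \ T, (q ^ 2 ^ v + 1)
  set B := ∏ v ∈ T, (q ^ 2 ^ v + 1)
  set a := ∑ v ∈ range N \ T, 2 ^ v
  set b := (∑ v ∈ T, 2 ^ v) + 1
  have h3 : q ^ a * ((q - 1) * B) ≤ q ^ (a + b) - 1 := by
    rw [hs, ← h2]
    calc q ^ a * ((q - 1) * B) ≤ A * ((q - 1) * B) := Nat.mul_le_mul_right _ h1
      _ = _ := by ring
  have h4 : q ^ a * ((q - 1) * B) < q ^ a * q ^ b := by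
    rw [← pow_add]
    have := Nat.one_le_pow (a + b) q (by omega)
    omega
  exact Nat.lt_of_mul_lt_mul_left h4

variable {ι : Type*}

/-- A list of data `(e, k)` with `k = q ^ e + 1` or `k = q ^ e - 1` has a small common multiple. -/
theorem exists_common_multiple {q : ℕ} (hq : 2 ≤ q) (L : List (ℕ × ℕ))
    (hL : ∀ x ∈ L, 1 ≤ x.1 ∧ (x.2 = q ^ x.1 + 1 ∨ x.2 = q ^ x.1 - 1)) :
    ∃ N, 0 < N ∧ (∀ x ∈ L, x.2 ∣ N) ∧ (q - 1) * N < q ^ ((L.map Prod.fst).sum + 1) := by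
  suffices h : ∃ (T : Finset ℕ) (R S : ℕ), 0 < R ∧ (∑ v ∈ T, 2 ^ v) + S ≤ (L.map Prod.fst).sum ∧
      R ≤ q ^ S ∧ ∀ x ∈ L, x.2 ∣ (∏ v ∈ T, (q ^ 2 ^ v + 1)) * R by
    obtain ⟨T, R, S, hR, hS, hRS, hdvd⟩ := h
    refine ⟨_, Nat.mul_pos (prod_pos fun v _ => Nat.succ_pos _) hR, hdvd, ?_⟩
    rw [← mul_assoc]
    calc (q - 1) * (∏ v ∈ T, (q ^ 2 ^ v + 1)) * R
        < q ^ ((∑ v ∈ T, 2 ^ v) + 1) * R := Nat.mul_lt_mul_of_pos_right (fermat_bound hq T) hR
      _ ≤ q ^ ((∑ v ∈ T, 2 ^ v) + 1) * q ^ S := Nat.mul_le_mul_left _ hRS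
      _ ≤ _ := by rw [← pow_add]; exact Nat.pow_le_pow_right (by omega) (by omega)
  induction L with
  | nil => exact ⟨∅, 1, 0, one_pos, by simp, by simp, by simp⟩
  | cons x L ih =>
    obtain ⟨T, R, S, hR, hS, hRS, hdvd⟩ := ih fun y hy => hL y (List.mem_cons_of_mem _ hy)
    obtain ⟨he, hx⟩ := hL x List.mem_cons_self
    rw [List.map_cons, List.sum_cons]
    rcases hx with hx | hx
    · obtain ⟨v, k, hk, hek⟩ := Nat.exists_eq_two_pow_mul_odd (n := x.1) (by omega)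
      have hd : q ^ 2 ^ v + 1 ∣ x.2 := by rw [hx, hek]; exact odd_part_pow_succ_dvd q hk
      have hve : 2 ^ v ≤ x.1 := by rw [hek]; exact Nat.le_mul_of_pos_right _ hk.pos
      refine ⟨insert v T, R * (x.2 / (q ^ 2 ^ v + 1)), S + (x.1 - 2 ^ v), Nat.mul_pos hR
        (Nat.div_pos (Nat.le_of_dvd (by omega) hd) (Nat.succ_pos _)), ?_, ?_, ?_⟩
      · generalize hw : x.1 - 2 ^ v = w
        have hw' : 2 ^ v + w = x.1 := by rw [← hw, Nat.add_sub_cancel' hve]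
        by_cases hv : v ∈ T
        · rw [insert_eq_of_mem hv]
          have := Nat.one_le_two_pow (n := v)
          omega
        · rw [sum_insert hv]; omega
      · rw [pow_add]
        exact Nat.mul_le_mul hRS (hx ▸ pow_div_le hq hve)
      · intro y hy
        rcases List.mem_cons.1 hy with rfl | hy
        · refine dvd_trans ?_ (mul_dvd_mul (dvd_prod_of_mem (fun v => q ^ 2 ^ v + 1) (mem_insert_self v T))
            (dvd_mul_left _ R))
          rw [Nat.mul_div_cancel' hd]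
        · exact (hdvd y hy).trans (mul_dvd_mul
            (prod_dvd_prod_of_subset _ _ _ (subset_insert _ _)) (dvd_mul_right _ _))
    · refine ⟨T, R * x.2, S + x.1, Nat.mul_pos hR ?_, by omega, ?_, ?_⟩
      · have := Nat.one_lt_pow (by omega : x.1 ≠ 0) hq
        omega
      · rw [pow_add]
        exact Nat.mul_le_mul hRS (by omega)
      · intro y hy
        rw [← mul_assoc]
        rcases List.mem_cons.1 hy with rfl | hy
        · exact dvd_mul_left _ _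
        · exact (hdvd y hy).trans (dvd_mul_right _ _)

theorem clog_le_pred {p : ℕ} (hp : 2 ≤ p) {μ : ℕ} (hμ : 1 ≤ μ) : Nat.clog p μ ≤ μ - 1 := by
  apply Nat.clog_le_of_le_pow
  calc μ ≤ 2 ^ (μ - 1) := by
        have := Nat.lt_two_pow_self (n := μ - 1)
        omega
    _ ≤ p ^ (μ - 1) := Nat.pow_le_pow_left hp _

theorem two_mul_le_two_pow (n : ℕ) : 2 * n ≤ 2 ^ n := by
  induction n with
  | zero => simp
  | succ n ih =>
    have : 2 ≤ 2 ^ n + 1 := by have := Nat.one_le_two_pow (n := n); omega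
    rcases n with _ | n
    · norm_num
    · rw [pow_succ 2 (n + 1)]
      have : 2 ≤ 2 ^ (n + 1) := Nat.le_self_pow (by omega) 2
      omega

theorem two_clog_le_succ {p : ℕ} (hp : 2 ≤ p) (M : ℕ) : 2 * Nat.clog p M ≤ M + 1 := by
  have h : Nat.clog p M ≤ (M + 1) / 2 := by
    apply Nat.clog_le_of_le_pow
    have h1 := two_mul_le_two_pow ((M + 1) / 2)
    exact (by omega : M ≤ 2 ^ ((M + 1) / 2)).trans (Nat.pow_le_pow_left hp _)
  omega

theorem two_clog_le {p : ℕ} (hp : 2 ≤ p) {M : ℕ} (h : M ≠ 1) (h3 : 3 ≤ p ∨ Even M) :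
    2 * Nat.clog p M ≤ M := by
  rcases Nat.even_or_odd M with he | ho
  · have := two_clog_le_succ hp M
    obtain ⟨j, hj⟩ := he
    omega
  · have hp3 : 3 ≤ p := h3.resolve_right (Nat.not_even_iff_odd.2 ho)
    obtain ⟨j, rfl⟩ := ho
    suffices Nat.clog p (2 * j + 1) ≤ j by omega
    apply Nat.clog_le_of_le_pow
    refine le_trans ?_ (Nat.pow_le_pow_left hp3 j)
    clear h h3
    induction j with
    | zero => simp
    | succ j ih => rw [pow_succ]; omega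

end CfsgLib.ElemOrder
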