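import Cfsg.Agent.Lib.ElemOrder.Orbit

/-!
Exponent bounds for multisets of roots stable under Frobenius-like maps.
-/

set_option autoImplicit false

namespace CfsgLib.ElemOrder

open Function Finset

set_option linter.unusedSectionVars false

variable {K : Type*} [Field K] [DecidableEq K]

/-- An upper bound for all multiplicities. -/
def maxMult (R : Multiset K) : ℕ := R.toFinset.sup fun a => R.count a

theorem count_le_maxMult (R : Multiset K) (a : K) : R.count a ≤ maxMult R := by
  by_cases h : a ∈ R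
  · exact Finset.le_sup (f := fun a => R.count a) (Multiset.mem_toFinset.2 h)
  · simp [Multiset.count_eq_zero.2 h]

theorem count_le_pow_clog {p : ℕ} (hp : 1 < p) (R : Multiset K) (a : K) :
    R.count a ≤ p ^ Nat.clog p (maxMult R) :=
  (count_le_maxMult R a).trans (Nat.le_pow_clog hp _)

theorem exists_count_eq_maxMult {R : Multiset K} (hR : R ≠ 0) :
    ∃ a ∈ R.toFinset, R.count a = maxMult R := by
  obtain ⟨a, ha⟩ := Multiset.exists_mem_of_ne_zero hR
  obtain ⟨b, hb, h⟩ := exists_mem_eq_sup R.toFinset ⟨a, Multiset.mem_toFinset.2 ha⟩ fun a => R.count a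
  exact ⟨b, hb, h.symm⟩

theorem card_toFinset_add_le {R : Multiset K} (hR : R ≠ 0) :
    R.toFinset.card + (maxMult R - 1) ≤ R.card := by
  obtain ⟨a, ha, h⟩ := exists_count_eq_maxMult hR
  rw [← Multiset.toFinset_sum_count_eq, ← h, card_eq_sum_ones]
  calc (∑ x ∈ R.toFinset, 1) + (R.count a - 1)
      ≤ (∑ x ∈ R.toFinset, 1) + ∑ x ∈ R.toFinset, (R.count x - 1) :=
        Nat.add_le_add_left (single_le_sum (f := fun x => R.count x - 1) (fun _ _ => Nat.zero_le _) ha) _
    _ = _ := by
      rw [← sum_add_distrib]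
      exact sum_congr rfl fun x hx => by
        have := Multiset.one_le_count_iff_mem.2 (Multiset.mem_toFinset.1 hx)
        omega

theorem count_map_eq {f : K → K} (hf : Injective f) {R : Multiset K} (h : R.map f = R) (a : K) :
    R.count (f a) = R.count a := by
  conv_lhs => rw [← h]
  exact Multiset.count_map_eq_count' f R hf a

theorem mem_of_map_eq {f : K → K} {R : Multiset K} (h : R.map f = R) :
    ∀ a ∈ R.toFinset, f a ∈ R.toFinset := fun a ha => by
  rw [Multiset.mem_toFinset] at ha ⊢
  rw [← h]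
  exact Multiset.mem_map_of_mem f ha

theorem sub_one_mul_le {x y : ℕ} (hy : 1 ≤ y) : (x - 1) * y ≤ x * y - 1 := by
  rcases x with _ | x
  · simp
  · rw [Nat.add_sub_cancel, add_mul, one_mul]; omega

/-! ### Roots of a twisted (unitary) element -/

theorem twisted_bound {p q : ℕ} (hp : 2 ≤ p) (hpq : p ≤ q) (hf : Injective fun a : K => (a ^ q)⁻¹)
    (R : Multiset K) (hR : R ≠ 0) (h0 : (0 : K) ∉ R) (hψ : (R.map fun a => (a ^ q)⁻¹) = R) :
    ∃ k c, 0 < k ∧ (∀ a, R.count a ≤ p ^ c) ∧ (∀ a ∈ R, a ^ k = 1) ∧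
      (q - 1) * (k * p ^ c) < q ^ (R.card + 1) := by
  classical
  obtain ⟨L, hL1, hLs, hLp, -, -⟩ := exists_periods hf R.toFinset (mem_of_map_eq hψ)
  obtain ⟨N, hN0, hN, hNb⟩ := exists_common_multiple (by omega : 2 ≤ q)
    (L.map fun e => (e, if Even e then q ^ e - 1 else q ^ e + 1)) (fun x hx => by
      obtain ⟨e, he, rfl⟩ := List.mem_map.1 hx
      exact ⟨hL1 e he, by dsimp only; split_ifs <;> simp⟩)
  refine ⟨N, Nat.clog p (maxMult R), hN0, count_le_pow_clog (by omega) R, fun a ha => ?_, ?_⟩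
  · obtain ⟨e, he, hea⟩ := hLp a (Multiset.mem_toFinset.2 ha)
    have ha0 : a ≠ 0 := fun h => h0 (h ▸ ha)
    have hdvd := hN _ (List.mem_map.2 ⟨e, he, rfl⟩)
    obtain ⟨t, rfl⟩ := hdvd
    rw [pow_mul]
    suffices h : a ^ (if Even e then q ^ e - 1 else q ^ e + 1) = 1 by simp [h]
    rw [iterate_inv_pow_fun] at hea
    split_ifs at hea ⊢ with hev
    · refine mul_left_cancel₀ ha0 ?_
      rw [← pow_succ', Nat.sub_add_cancel (Nat.one_le_pow _ _ (by omega)), hea, mul_one]
    · rw [pow_succ]
      nth_rw 2 [← hea]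
      exact mul_inv_cancel₀ (pow_ne_zero _ ha0)
  · rw [List.map_map, show (Prod.fst ∘ fun e => (e, if Even e then q ^ e - 1 else q ^ e + 1)) = id
      from rfl, List.map_id, hLs] at hNb
    have h1 := card_toFinset_add_le hR
    obtain ⟨a, ha, hc⟩ := exists_count_eq_maxMult hR
    have hμ : 1 ≤ maxMult R := hc ▸ Multiset.one_le_count_iff_mem.2 (Multiset.mem_toFinset.1 ha)
    calc (q - 1) * (N * p ^ Nat.clog p (maxMult R)) = ((q - 1) * N) * p ^ Nat.clog p (maxMult R) := by ring
      _ < q ^ (R.toFinset.card + 1) * p ^ Nat.clog p (maxMult R) :=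
          Nat.mul_lt_mul_of_pos_right hNb (pow_pos (by omega) _)
      _ ≤ q ^ (R.toFinset.card + 1) * q ^ (maxMult R - 1) := Nat.mul_le_mul_left _
          ((Nat.pow_le_pow_right (by omega) (clog_le_pred hp hμ)).trans (Nat.pow_le_pow_left hpq _))
      _ ≤ _ := by rw [← pow_add]; exact Nat.pow_le_pow_right (by omega) (by omega)

/-! ### Roots of an element defined over the small field, up to scalars -/

theorem geom_le_pow {q : ℕ} (hq : 2 ≤ q) (e : ℕ) : ∑ i ∈ range e, q ^ i ≤ q ^ e :=
  (Nat.geomSum_lt hq fun _ hi => mem_range.1 hi).le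

theorem geom_mul {q : ℕ} (e : ℕ) : (q - 1) * ∑ i ∈ range e, q ^ i = q ^ e - 1 := by
  induction e with
  | zero => simp
  | succ e ih =>
    rcases q.eq_zero_or_pos with rfl | hq
    · simp
    rw [sum_range_succ, mul_add, ih, pow_succ, tsub_mul, one_mul, mul_comm q]
    have := Nat.one_le_pow e q hq
    have : q ^ e ≤ q ^ e * q := Nat.le_mul_of_pos_right _ hq
    omega

theorem prod_geom_le {q : ℕ} (hq : 2 ≤ q) : ∀ L : List ℕ, L ≠ [] →
    (q - 1) * (L.map fun e => ∑ i ∈ range e, q ^ i).prod ≤ q ^ L.sum - 1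
  | [], h => absurd rfl h
  | [e], _ => by simp [geom_mul]
  | e :: e' :: L, _ => by
    rw [List.map_cons, List.prod_cons, List.sum_cons, ← mul_assoc, mul_comm (q - 1), mul_assoc,
      pow_add]
    calc _ ≤ q ^ e * (q ^ (e' :: L).sum - 1) :=
          Nat.mul_le_mul (geom_le_pow hq e) (prod_geom_le hq _ (List.cons_ne_nil _ _))
      _ ≤ _ := by
        rw [Nat.mul_sub, Nat.mul_one]
        have := Nat.one_le_pow e q (by omega)
        omega

theorem linear_bound {p q : ℕ} (hp : 2 ≤ p) (hpq : p ≤ q) (hf : Injective fun a : K => a ^ q)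
    (R : Multiset K) (hR : R ≠ 0) (h0 : (0 : K) ∉ R) (hφ : (R.map fun a => a ^ q) = R) :
    ∃ k c, ∃ lam : K, 0 < k ∧ lam ^ q = lam ∧ (∀ a, R.count a ≤ p ^ c) ∧ (∀ a ∈ R, a ^ k = lam) ∧
      (q - 1) * (k * p ^ c) ≤ q ^ R.card - 1 := by
  classical
  obtain ⟨L, hL1, hLs, hLp, hLone, hLne⟩ := exists_periods hf R.toFinset (mem_of_map_eq hφ)
  obtain ⟨b, hb, hc⟩ := exists_count_eq_maxMult hR
  have hμ : 1 ≤ maxMult R := hc ▸ Multiset.one_le_count_iff_mem.2 (Multiset.mem_toFinset.1 hb)
  have hper : ∀ a ∈ R, ∃ e ∈ L, a ^ (q ^ e - 1) = 1 := fun a ha => by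
    obtain ⟨e, he, hea⟩ := hLp a (Multiset.mem_toFinset.2 ha)
    rw [iterate_pow_fun] at hea
    refine ⟨e, he, mul_left_cancel₀ (fun h : a = 0 => h0 (h ▸ ha)) ?_⟩
    rw [← pow_succ', Nat.sub_add_cancel (Nat.one_le_pow _ _ (by omega)), hea, mul_one]
  have hP : p ^ Nat.clog p (maxMult R) ≤ q ^ (maxMult R - 1) :=
    (Nat.pow_le_pow_right (by omega) (clog_le_pred hp hμ)).trans (Nat.pow_le_pow_left hpq _)
  have hcard := card_toFinset_add_le hR
  have key : ∀ T : ℕ, T ≤ q ^ R.toFinset.card - 1 →
      T * p ^ Nat.clog p (maxMult R) ≤ q ^ R.card - 1 := fun T hT => by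
    calc _ ≤ (q ^ R.toFinset.card - 1) * q ^ (maxMult R - 1) := Nat.mul_le_mul hT hP
      _ ≤ q ^ R.toFinset.card * q ^ (maxMult R - 1) - 1 := sub_one_mul_le (Nat.one_le_pow _ _ (by omega))
      _ ≤ _ := by rw [← pow_add]; exact Nat.sub_le_sub_right (Nat.pow_le_pow_right (by omega) hcard) 1
  match L, hLne ⟨b, hb⟩, hLs, hper, hLone, hL1 with
  | [], h, _, _, _, _ => exact absurd rfl h
  | [e], _, hLs, hper, hLone, hL1 =>
    set k := ∑ i ∈ range e, q ^ i
    have hbm : b ∈ R := Multiset.mem_toFinset.1 hb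
    have hlam : (b ^ k) ^ q = b ^ k := by
      obtain ⟨e', he', h⟩ := hper b hbm
      rw [List.mem_singleton.1 he', ← geom_mul, mul_comm, pow_mul] at h
      conv_lhs => rw [show q = (q - 1) + 1 by omega, pow_succ, h, one_mul]
    refine ⟨k, Nat.clog p (maxMult R), b ^ k,
      sum_pos (fun i _ => pow_pos (by omega) _) ⟨0, mem_range.2 (hL1 e List.mem_cons_self)⟩, hlam,
      count_le_pow_clog (by omega) R, fun a ha => ?_, ?_⟩
    · obtain ⟨i, rfl⟩ := hLone (by simp) b hb a (Multiset.mem_toFinset.2 ha)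
      rw [iterate_pow_fun, ← pow_mul, mul_comm, pow_mul, ← iterate_pow_fun]
      clear ha
      induction i with
      | zero => rfl
      | succ i ih => rw [iterate_succ_apply', ih]; exact hlam
    · rw [← mul_assoc]
      refine key _ ?_
      rw [geom_mul, ← hLs, List.sum_singleton]
  | e :: e' :: L, _, hLs, hper, _, hL1 =>
    refine ⟨(q - 1) * ((e :: e' :: L).map fun e => ∑ i ∈ range e, q ^ i).prod,
      Nat.clog p (maxMult R), 1, Nat.mul_pos (by omega) (List.prod_pos fun x hx => ?_), one_pow q,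
      count_le_pow_clog (by omega) R, fun a ha => ?_, ?_⟩
    · obtain ⟨e, he, rfl⟩ := List.mem_map.1 hx
      exact sum_pos (fun i _ => pow_pos (by omega) _) ⟨0, mem_range.2 (hL1 e he)⟩
    · obtain ⟨f, hf, h⟩ := hper a ha
      obtain ⟨t, ht⟩ := List.dvd_prod (List.mem_map_of_mem (f := fun e => ∑ i ∈ range e, q ^ i) hf)
      rw [ht, ← mul_assoc, geom_mul, pow_mul, h, one_pow]
    · rw [← mul_assoc]
      refine key _ ?_
      rw [List.map_cons, List.prod_cons, ← hLs, List.sum_cons]
      calc (q - 1) * ((q - 1) * ((∑ i ∈ range e, q ^ i) * _))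
          = (q ^ e - 1) * ((q - 1) * ((e' :: L).map fun e => ∑ i ∈ range e, q ^ i).prod) := by
            rw [← geom_mul e]; ring
        _ ≤ (q ^ e - 1) * (q ^ (e' :: L).sum - 1) :=
            Nat.mul_le_mul_left _ (prod_geom_le (by omega) _ (List.cons_ne_nil _ _))
        _ ≤ _ := by
            rw [pow_add]
            exact (Nat.mul_le_mul_left _ (Nat.sub_le _ 1)).trans (sub_one_mul_le (Nat.one_le_pow _ _ (by omega)))




/-! ### Roots closed under inversion -/

/-- The roots different from their inverses. -/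
def offPart (R : Multiset K) : Finset K := R.toFinset.filter fun a => a⁻¹ ≠ a

/-- The number of roots different from their inverses. -/
def offWeight (R : Multiset K) : ℕ := ∑ a ∈ offPart R, R.count a

/-- The multiplicity of `-1`, counted as zero in characteristic two. -/
def negMult (R : Multiset K) : ℕ := if (-1 : K) = 1 then 0 else R.count (-1)

theorem eq_or_eq_neg_of_notMem_off {R : Multiset K} (h0 : (0 : K) ∉ R) {a : K} (ha : a ∈ R)
    (h : a ∉ offPart R) : a = 1 ∨ a = -1 := by
  have he : a⁻¹ = a := not_not.1 fun hne => h (mem_filter.2 ⟨Multiset.mem_toFinset.2 ha, hne⟩)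
  apply mul_self_eq_one_iff.1
  nth_rw 1 [← he]
  exact inv_mul_cancel₀ fun h : a = 0 => h0 (h ▸ ha)

section SelfRec

variable (R : Multiset K) (h0 : (0 : K) ∉ R) (hinv : (R.map fun a => a⁻¹) = R)

include h0 in
theorem sum_rest {M : Type*} [AddCommMonoid M] (g : K → M) (hg : ∀ a, a ∉ R → g a = 0) :
    ∑ a ∈ R.toFinset, g a = (∑ a ∈ offPart R, g a) + (g 1 + if (-1 : K) = 1 then 0 else g (-1)) := by
  rw [← sum_filter_add_sum_filter_not R.toFinset (fun a => a⁻¹ ≠ a) g]
  congr 1
  have : ∀ a ∈ R.toFinset.filter (fun a => ¬ a⁻¹ ≠ a), a ∈ ({1, -1} : Finset K) := by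
    intro a ha
    rw [mem_filter, Multiset.mem_toFinset] at ha
    rw [mem_insert, mem_singleton]
    exact eq_or_eq_neg_of_notMem_off h0 ha.1 fun h => ha.2 (mem_filter.1 h).2
  rw [sum_subset this fun a ha hn => hg a fun h => by
    refine hn (mem_filter.2 ⟨Multiset.mem_toFinset.2 h, ?_⟩)
    rcases mem_insert.1 ha with rfl | h'
    · simp
    · rw [mem_singleton.1 h']; simp]
  split_ifs with h
  · simp [h]
  · rw [sum_pair (Ne.symm h)]

include h0 in
theorem card_eq_weights : R.card = offWeight R + (R.count 1 + negMult R) := by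
  rw [← Multiset.toFinset_sum_count_eq,
    sum_rest R h0 (fun a => R.count a) fun a ha => Multiset.count_eq_zero.2 ha]
  rfl

include hinv in
theorem count_inv (a : K) : R.count a⁻¹ = R.count a := count_map_eq inv_injective hinv a

include hinv in
theorem inv_mem_off {a : K} (ha : a ∈ offPart R) : a⁻¹ ∈ offPart R := by
  obtain ⟨h1, h2⟩ := mem_filter.1 ha
  exact mem_filter.2 ⟨mem_of_map_eq hinv a h1, by rw [inv_inv]; exact Ne.symm h2⟩

include hinv in
theorem even_offWeight : Even (offWeight R) := by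
  rw [← ZMod.natCast_eq_zero_iff_even, offWeight, Nat.cast_sum]
  refine sum_involution (fun a _ => a⁻¹) (fun a ha => ?_) (fun a ha _ => (mem_filter.1 ha).2)
    (fun a ha => inv_mem_off R hinv ha) fun a _ => inv_inv a
  rw [count_inv R hinv]
  exact CharTwo.add_self_eq_zero _

include h0 hinv in
theorem even_negMult (hprod : R.prod = 1) : Even (negMult R) := by
  unfold negMult
  split_ifs with hne
  · exact Even.zero
  have h : ∀ a ∈ R.toFinset, a ≠ 0 := fun a ha he => h0 (he ▸ Multiset.mem_toFinset.1 ha)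
  have key := sum_rest R h0 (M := Additive K) (fun a => Additive.ofMul (a ^ R.count a)) fun a ha => by
    rw [Multiset.count_eq_zero.2 ha, pow_zero]; rfl
  rw [if_neg hne] at key
  have hS : ∏ a ∈ offPart R, a ^ R.count a = 1 :=
    prod_involution (fun a _ => a⁻¹)
      (fun a ha => by
        rw [count_inv R hinv, inv_pow, mul_inv_cancel₀ (pow_ne_zero _ (h a (mem_filter.1 ha).1))])
      (fun a ha _ => (mem_filter.1 ha).2) (fun a ha => inv_mem_off R hinv ha) fun a _ => inv_inv a
  have key' := congrArg Additive.toMul key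
  simp only [toMul_sum, toMul_add, toMul_ofMul, hS, one_pow, one_mul] at key'
  rw [← Finset.prod_multiset_count, hprod] at key'
  exact (neg_one_pow_eq_one_iff_even hne).1 key'.symm

include h0 hinv in
theorem selfrec_bound {p q : ℕ} (hp : 2 ≤ p) (hpq : p ≤ q) (hodd : (-1 : K) ≠ 1 → Odd q)
    (hf : Injective fun a : K => a ^ q) (hφ : (R.map fun a => a ^ q) = R) {B : ℕ}
    (hW : offWeight R ≤ 2 * B)
    (h1 : 2 * Nat.clog p (R.count 1) + offWeight R ≤ 2 * B)
    (h2 : 2 * Nat.clog p (negMult R) + offWeight R ≤ 2 * B)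
    (hboth : R.count 1 ≠ 0 → negMult R ≠ 0 →
      2 * (q - 1) * p ^ Nat.clog p (max (R.count 1) (negMult R)) < q ^ (B + 1)) :
    ∃ k c, ∃ lam : K, 0 < k ∧ (lam = 1 ∨ lam = -1) ∧ (∀ a, R.count a ≤ p ^ c) ∧
      (∀ a ∈ R, a ^ k = lam) ∧ (q - 1) * (k * p ^ c) < q ^ (B + 1) := by
  classical
  by_cases hR : R = 0
  · subst hR
    refine ⟨1, 0, 1, one_pos, Or.inl rfl, by simp, by simp, ?_⟩
    rw [pow_zero, Nat.mul_one, Nat.mul_one]
    calc q - 1 < q ^ 1 := by rw [pow_one]; omega
      _ ≤ _ := Nat.pow_le_pow_right (by omega) (by omega)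
  obtain ⟨L, hL1, hLs, hLp⟩ := exists_selfrec (by omega : 1 ≤ q) hf (offPart R)
    (fun h => h0 (Multiset.mem_toFinset.1 (mem_filter.1 h).1))
    (fun a ha => by
      obtain ⟨h, hne⟩ := mem_filter.1 ha
      refine mem_filter.2 ⟨mem_of_map_eq hφ a h, fun he => hne (hf ?_)⟩
      show a⁻¹ ^ q = a ^ q
      rw [inv_pow]; exact he)
    (fun a ha => inv_mem_off R hinv ha) (fun a ha => (mem_filter.1 ha).2)
  obtain ⟨N, hN0, hN, hNb⟩ := exists_common_multiple (by omega : 2 ≤ q) L hL1
  have hWcard : (offPart R).card ≤ offWeight R := by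
    rw [card_eq_sum_ones]
    exact sum_le_sum fun a ha =>
      Multiset.one_le_count_iff_mem.2 (Multiset.mem_toFinset.1 (mem_filter.1 ha).1)
  -- the exponent of the unipotent part fits into the budget
  have hc : (L.map Prod.fst).sum + Nat.clog p (maxMult R) ≤ B := by
    obtain ⟨a, ha, hμ⟩ := exists_count_eq_maxMult hR
    have ha' := Multiset.mem_toFinset.1 ha
    by_cases hoff : a ∈ offPart R
    · have hμ1 : 1 ≤ maxMult R := hμ ▸ Multiset.one_le_count_iff_mem.2 ha'
      have h2' : (offPart R).card + 2 * (maxMult R - 1) ≤ offWeight R := by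
        rw [card_eq_sum_ones, offWeight]
        calc (∑ x ∈ offPart R, 1) + 2 * (maxMult R - 1)
            = (∑ x ∈ offPart R, 1) + ∑ x ∈ ({a, a⁻¹} : Finset K), (R.count x - 1) := by
              rw [sum_pair (Ne.symm (mem_filter.1 hoff).2), count_inv R hinv, hμ, two_mul]
          _ ≤ (∑ x ∈ offPart R, 1) + ∑ x ∈ offPart R, (R.count x - 1) :=
              Nat.add_le_add_left (sum_le_sum_of_subset (insert_subset hoff
                (singleton_subset_iff.2 (inv_mem_off R hinv hoff)))) _
          _ = _ := by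
            rw [← sum_add_distrib]
            exact sum_congr rfl fun x hx => by
              have := Multiset.one_le_count_iff_mem.2 (Multiset.mem_toFinset.1 (mem_filter.1 hx).1)
              omega
      have := clog_le_pred hp hμ1
      omega
    · rcases eq_or_eq_neg_of_notMem_off h0 ha' hoff with rfl | rfl
      · rw [hμ] at h1; omega
      · by_cases hne : (-1 : K) = 1
        · rw [hne] at hμ; rw [hμ] at h1; omega
        · rw [negMult, if_neg hne, hμ] at h2; omega
  have hPq : p ^ Nat.clog p (maxMult R) ≤ q ^ Nat.clog p (maxMult R) := Nat.pow_le_pow_left hpq _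
  rcases L with _ | ⟨x, L'⟩
  · have hS : offPart R = ∅ := card_eq_zero.1 (by simpa using hLs.symm)
    have hmem : ∀ a ∈ R, a = 1 ∨ a = -1 := fun a ha =>
      eq_or_eq_neg_of_notMem_off h0 ha (by simp [hS])
    have hsmall : (q - 1) * (1 * p ^ Nat.clog p (maxMult R)) < q ^ (B + 1) := by
      rw [one_mul, pow_succ']
      calc _ ≤ (q - 1) * q ^ B := Nat.mul_le_mul_left _ (hPq.trans
            (Nat.pow_le_pow_right (by omega) (by omega)))
        _ < q * q ^ B := Nat.mul_lt_mul_of_pos_right (by omega) (pow_pos (by omega) _)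
    by_cases hm1 : R.count 1 = 0
    · refine ⟨1, _, -1, one_pos, Or.inr rfl, count_le_pow_clog (by omega) R, fun a ha => ?_, hsmall⟩
      rw [pow_one]
      exact (hmem a ha).resolve_left fun h => Multiset.count_eq_zero.1 hm1 (h ▸ ha)
    by_cases hm2 : negMult R = 0
    · refine ⟨1, _, 1, one_pos, Or.inl rfl, count_le_pow_clog (by omega) R, fun a ha => ?_, hsmall⟩
      rw [pow_one]
      rcases hmem a ha with h | h
      · exact h
      · unfold negMult at hm2
        split_ifs at hm2 with hne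
        · rw [h, hne]
        · exact absurd (h ▸ ha) (Multiset.count_eq_zero.1 hm2)
    refine ⟨2, _, 1, two_pos, Or.inl rfl, count_le_pow_clog (by omega) R, fun a ha => ?_, ?_⟩
    · rcases hmem a ha with rfl | rfl <;> simp
    · have hmax : maxMult R = max (R.count 1) (negMult R) := by
        refine le_antisymm ?_ (max_le (count_le_maxMult R 1) ?_)
        · obtain ⟨a, ha, hμ⟩ := exists_count_eq_maxMult hR
          rcases hmem a (Multiset.mem_toFinset.1 ha) with rfl | rfl
          · omega
          · unfold negMult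
            split_ifs with hne
            · rw [hne] at hμ; omega
            · omega
        · unfold negMult
          split_ifs
          · exact Nat.zero_le _
          · exact count_le_maxMult R _
      rw [hmax]
      calc (q - 1) * (2 * _) = 2 * (q - 1) * _ := by ring
        _ < _ := hboth hm1 hm2
  · refine ⟨N, _, 1, hN0, Or.inl rfl, count_le_pow_clog (by omega) R, fun a ha => ?_, ?_⟩
    · by_cases hoff : a ∈ offPart R
      · obtain ⟨y, hy, h⟩ := hLp a hoff
        obtain ⟨t, rfl⟩ := hN y hy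
        rw [pow_mul, h, one_pow]
      · rcases eq_or_eq_neg_of_notMem_off h0 ha hoff with rfl | rfl
        · exact one_pow _
        by_cases hne : (-1 : K) = 1
        · rw [hne, one_pow]
        · have hx : Even x.2 := by
            obtain ⟨he, h | h⟩ := hL1 x List.mem_cons_self <;> rw [h]
            · exact ((hodd hne).pow).add_one
            · exact Nat.Odd.sub_odd ((hodd hne).pow) odd_one
          exact (hx.trans_dvd (hN x List.mem_cons_self)).neg_one_pow
    · calc (q - 1) * (N * p ^ Nat.clog p (maxMult R)) = ((q - 1) * N) * p ^ Nat.clog p (maxMult R) := by ring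
        _ < q ^ (((x :: L').map Prod.fst).sum + 1) * p ^ Nat.clog p (maxMult R) :=
            Nat.mul_lt_mul_of_pos_right hNb (pow_pos (by omega) _)
        _ ≤ q ^ (((x :: L').map Prod.fst).sum + 1) * q ^ Nat.clog p (maxMult R) := Nat.mul_le_mul_left _ hPq
        _ ≤ _ := by rw [← pow_add]; exact Nat.pow_le_pow_right (by omega) (by omega)

include h0 hinv in
/-- Three roots with product one. -/
theorem selfrec_three {p q : ℕ} (hp : 2 ≤ p) (hpq : p ≤ q) (hq3 : 3 ≤ q)
    (hf : Injective fun a : K => a ^ q) (hφ : (R.map fun a => a ^ q) = R) (hcard : R.card = 3)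
    (hprod : R.prod = 1) :
    ∃ k c, 0 < k ∧ (∀ a, R.count a ≤ p ^ c) ∧ (∀ a ∈ R, a ^ k = 1) ∧
      2 * (q - 1) * (k * p ^ c) ≤ q ^ 3 - 1 := by
  classical
  have hcnt := card_eq_weights R h0
  obtain ⟨u, hu⟩ := even_offWeight R hinv
  obtain ⟨w, hw⟩ := even_negMult R h0 hinv hprod
  have hm : ∀ a ∈ R, a ∉ offPart R → a = 1 ∨ a = -1 ∧ negMult R ≠ 0 := fun a ha h => by
    rcases eq_or_eq_neg_of_notMem_off h0 ha h with rfl | rfl
    · exact Or.inl rfl
    · unfold negMult
      split_ifs with hne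
      · exact Or.inl hne
      · exact Or.inr ⟨rfl, (Multiset.count_pos.2 ha).ne'⟩
  have hoffle : ∀ a ∈ offPart R, R.count a + R.count a ≤ offWeight R := fun a ha => by
    calc _ = ∑ x ∈ ({a, a⁻¹} : Finset K), R.count x := by
          rw [sum_pair (Ne.symm (mem_filter.1 ha).2), count_inv R hinv]
      _ ≤ _ := sum_le_sum_of_subset (insert_subset ha
          (singleton_subset_iff.2 (inv_mem_off R hinv ha)))
  have hnone : offWeight R = 0 → ∀ a ∈ R, a ∉ offPart R := fun hz a ha h => by
    have := hoffle a h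
    have := Multiset.count_pos.2 ha
    omega
  by_cases hoff : offWeight R = 0
  · by_cases hneg : negMult R = 0
    · refine ⟨1, Nat.clog p 3, one_pos, fun a => ?_, fun a ha => ?_, ?_⟩
      · exact le_trans (le_trans (Multiset.count_le_card a R) hcard.le) (Nat.le_pow_clog (by omega) _)
      · rcases hm a ha (hnone hoff a ha) with rfl | ⟨_, h⟩
        · simp
        · exact absurd hneg h
      · have h4 : p ^ Nat.clog p 3 ≤ max 4 q := by
          rcases (show p = 2 ∨ 3 ≤ p by omega) with rfl | hp3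
          · have : Nat.clog 2 3 ≤ 2 := Nat.clog_le_of_le_pow (by norm_num)
            exact le_max_of_le_left ((Nat.pow_le_pow_right (by norm_num) this).trans (by norm_num))
          · have : Nat.clog p 3 ≤ 1 := Nat.clog_le_of_le_pow (by rw [pow_one]; exact hp3)
            exact le_max_of_le_right ((Nat.pow_le_pow_right (by omega) this).trans (by rw [pow_one]; exact hpq))
        have h5 : max 4 q ≤ 2 * q := max_le (by omega) (by omega)
        calc 2 * (q - 1) * (1 * p ^ Nat.clog p 3) ≤ 2 * (q - 1) * max 4 q := by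
              rw [one_mul]; exact Nat.mul_le_mul_left _ h4
          _ ≤ _ := by
            obtain ⟨r, rfl⟩ : ∃ r, q = r + 3 := ⟨q - 3, by omega⟩
            rw [show r + 3 - 1 = r + 2 by omega]
            rcases max_choice 4 (r + 3) with h | h <;> rw [h] <;> ring_nf <;> omega
    · refine ⟨2, 1, two_pos, fun a => ?_, fun a ha => ?_, ?_⟩
      · rw [pow_one]
        by_cases ha : a ∈ R
        · rcases eq_or_eq_neg_of_notMem_off h0 ha (hnone hoff a ha) with rfl | rfl
          · omega
          · unfold negMult at hneg hcnt hw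
            split_ifs at hneg hcnt hw with hne
            · exact absurd rfl hneg
            · omega
        · simp [Multiset.count_eq_zero.2 ha]
      · rcases eq_or_eq_neg_of_notMem_off h0 ha (hnone hoff a ha) with rfl | rfl <;> simp
      · rw [pow_one]
        calc 2 * (q - 1) * (2 * p) ≤ 2 * (q - 1) * (2 * q) := Nat.mul_le_mul_left _ (by omega)
          _ ≤ _ := by
            obtain ⟨r, rfl⟩ : ∃ r, q = r + 3 := ⟨q - 3, by omega⟩
            rw [show r + 3 - 1 = r + 2 by omega]
            ring_nf; omega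
  · obtain ⟨L, hL1, hLs, hLp⟩ := exists_selfrec (by omega : 1 ≤ q) hf (offPart R)
      (fun h => h0 (Multiset.mem_toFinset.1 (mem_filter.1 h).1))
      (fun a ha => by
        obtain ⟨h, hne⟩ := mem_filter.1 ha
        refine mem_filter.2 ⟨mem_of_map_eq hφ a h, fun he => hne (hf ?_)⟩
        show a⁻¹ ^ q = a ^ q
        rw [inv_pow]; exact he)
      (fun a ha => inv_mem_off R hinv ha) (fun a ha => (mem_filter.1 ha).2)
    have hWc : (offPart R).card ≤ offWeight R := by
      rw [card_eq_sum_ones]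
      exact sum_le_sum fun a ha =>
        Multiset.one_le_count_iff_mem.2 (Multiset.mem_toFinset.1 (mem_filter.1 ha).1)
    obtain ⟨a, ha⟩ : (offPart R).Nonempty :=
      nonempty_of_sum_ne_zero (f := fun x => R.count x) hoff
    obtain ⟨x, hx, -⟩ := hLp a ha
    have hx1 := (hL1 x hx).1
    have hxs := List.le_sum_of_mem (List.mem_map_of_mem (f := Prod.fst) hx)
    have hlen : ∀ y ∈ L, y = x := by
      rcases L with _ | ⟨z, _ | ⟨z', L'⟩⟩
      · simp at hx
      · intro y hy; rw [List.mem_singleton] at hy hx; rw [hy, hx]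
      · exfalso
        have := (hL1 z List.mem_cons_self).1
        have := (hL1 z' (List.mem_cons_of_mem _ List.mem_cons_self)).1
        simp only [List.map_cons, List.sum_cons] at hLs
        omega
    have hxe : x.1 = 1 := by omega
    refine ⟨x.2, 0, ?_, fun b => ?_, fun b hb => ?_, ?_⟩
    · rcases (hL1 x hx).2 with h | h <;> rw [h, hxe, pow_one] <;> omega
    · rw [pow_zero]
      by_cases hb : b ∈ R
      · by_cases hbo : b ∈ offPart R
        · have := hoffle b hbo; omega
        · rcases hm b hb hbo with rfl | ⟨-, h⟩ <;> omega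
      · simp [Multiset.count_eq_zero.2 hb]
    · by_cases hbo : b ∈ offPart R
      · obtain ⟨y, hy, h⟩ := hLp b hbo
        rwa [hlen y hy] at h
      · rcases hm b hb hbo with rfl | ⟨-, h⟩
        · exact one_pow _
        · omega
    · rw [pow_zero, mul_one]
      calc 2 * (q - 1) * x.2 ≤ 2 * (q - 1) * (q + 1) := Nat.mul_le_mul_left _ (by
            rcases (hL1 x hx).2 with h | h <;> rw [h, hxe, pow_one] <;> omega)
        _ ≤ _ := by
          obtain ⟨r, rfl⟩ : ∃ r, q = r + 3 := ⟨q - 3, by omega⟩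
          rw [show r + 3 - 1 = r + 2 by omega]
          ring_nf; omega

end SelfRec

/-- Three roots of a unitary element over the field with four elements. -/
theorem twisted_three (hf : Injective fun a : K => (a ^ 2)⁻¹) (R : Multiset K) (h0 : (0 : K) ∉ R)
    (hψ : (R.map fun a => (a ^ 2)⁻¹) = R) (hcard : R.card = 3) :
    ∃ k c, ∃ lam : K, 0 < k ∧ lam ^ 4 = lam ∧ (∀ a, R.count a ≤ 2 ^ c) ∧ (∀ a ∈ R, a ^ k = lam) ∧
      k * 2 ^ c ≤ 10 := by
  classical
  obtain ⟨L, hL1, hLs, hLp, -, -⟩ := exists_periods hf R.toFinset (mem_of_map_eq hψ)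
  have hfix : ∀ a ∈ R, a ^ 3 = 1 ∨ (3 ≤ R.toFinset.card ∧ a ^ 9 = 1) := fun a ha => by
    obtain ⟨e, he, h⟩ := hLp a (Multiset.mem_toFinset.2 ha)
    have ha0 : a ≠ 0 := fun h => h0 (h ▸ ha)
    have hle := List.le_sum_of_mem he
    have h1 := hL1 e he
    have h3 : R.toFinset.card ≤ 3 := hcard ▸ Multiset.toFinset_card_le R
    rw [iterate_inv_pow_fun] at h
    rcases (show e = 1 ∨ e = 2 ∨ e = 3 by omega) with rfl | rfl | rfl
    · left
      norm_num [Nat.even_iff] at h
      rw [pow_succ]
      nth_rw 2 [← h]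
      exact mul_inv_cancel₀ (pow_ne_zero _ ha0)
    · left
      norm_num [Nat.even_iff] at h
      refine mul_left_cancel₀ ha0 ?_
      rw [← pow_succ', h, mul_one]
    · right
      norm_num [Nat.even_iff] at h
      refine ⟨by omega, ?_⟩
      rw [pow_succ]
      nth_rw 2 [← h]
      exact mul_inv_cancel₀ (pow_ne_zero _ ha0)
  have hR : R ≠ 0 := fun h => by simp [h] at hcard
  have hpos : 1 ≤ R.toFinset.card := Finset.card_pos.2 (by simpa using hR)
  have hμ := card_toFinset_add_le hR
  rcases (show R.toFinset.card = 1 ∨ R.toFinset.card = 2 ∨ 3 ≤ R.toFinset.card by omega) with h | h | h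
  · obtain ⟨a, ha⟩ := Finset.card_eq_one.1 h
    have haR : a ∈ R := Multiset.mem_toFinset.1 (by rw [ha]; simp)
    have h3 : a ^ 3 = 1 := (hfix a haR).resolve_right fun h' => by omega
    refine ⟨1, 2, a, one_pos, ?_, fun b => ?_, fun b hb => ?_, by norm_num⟩
    · rw [pow_succ, h3, one_mul]
    · exact le_trans (le_trans (Multiset.count_le_card b R) hcard.le) (by norm_num)
    · rw [pow_one]
      exact Finset.mem_singleton.1 (ha ▸ Multiset.mem_toFinset.2 hb)
  · refine ⟨3, 1, 1, by norm_num, one_pow _, fun b => ?_, fun b hb => ?_, by norm_num⟩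
    · exact (count_le_maxMult R b).trans (by rw [pow_one]; omega)
    · exact (hfix b hb).resolve_right fun h' => by omega
  · refine ⟨9, 0, 1, by norm_num, one_pow _, fun b => ?_, fun b hb => ?_, by norm_num⟩
    · exact (count_le_maxMult R b).trans (by rw [pow_zero]; omega)
    · rcases hfix b hb with h' | ⟨-, h'⟩
      · rw [show 9 = 3 * 3 from rfl, pow_mul, h', one_pow]
      · exact h'

end CfsgLib.ElemOrder
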