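import Cfsg.Agent.Lib.ElemOrder.Arith

/-!
Orbit decompositions of finite sets of field elements under Frobenius-like maps.
-/

set_option autoImplicit false

namespace CfsgLib.ElemOrder

open Function Finset

variable {α : Type*} [DecidableEq α]

/-- The orbit of `a` under `f`. -/
noncomputable def orb (f : α → α) (a : α) : Finset α :=
  (range (minimalPeriod f a)).image fun i => f^[i] a

omit [DecidableEq α] in
theorem mem_periodicPts_of_closed {f : α → α} (hf : Injective f) {S : Finset α}
    (hS : ∀ a ∈ S, f a ∈ S) {a : α} (ha : a ∈ S) : a ∈ periodicPts f := by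
  have hmem : ∀ i, f^[i] a ∈ S := fun i => by
    induction i with
    | zero => exact ha
    | succ i ih => rw [iterate_succ_apply']; exact hS _ ih
  obtain ⟨i, j, hij, he⟩ := Finite.exists_ne_map_eq_of_infinite fun i => (⟨f^[i] a, hmem i⟩ : S)
  have he : f^[i] a = f^[j] a := congrArg Subtype.val he
  rcases Nat.lt_or_gt_of_ne hij with h | h
  · exact ⟨j - i, by omega, hf.iterate i (by rw [← iterate_add_apply, Nat.add_sub_cancel' h.le]; exact he.symm)⟩
  · exact ⟨i - j, by omega, hf.iterate j (by rw [← iterate_add_apply, Nat.add_sub_cancel' h.le]; exact he)⟩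

theorem iterate_mem_orb {f : α → α} {a : α} (ha : a ∈ periodicPts f) (i : ℕ) : f^[i] a ∈ orb f a :=
  mem_image.2 ⟨i % minimalPeriod f a,
    mem_range.2 (Nat.mod_lt _ (minimalPeriod_pos_of_mem_periodicPts ha)), iterate_mod_minimalPeriod_eq⟩

theorem mem_orb {f : α → α} {a b : α} (hb : b ∈ orb f a) : ∃ i < minimalPeriod f a, f^[i] a = b := by
  obtain ⟨i, hi, h⟩ := mem_image.1 hb
  exact ⟨i, mem_range.1 hi, h⟩

theorem orb_subset {f : α → α} {S : Finset α} (hS : ∀ a ∈ S, f a ∈ S) {a : α} (ha : a ∈ S) :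
    orb f a ⊆ S := by
  have hmem : ∀ i, f^[i] a ∈ S := fun i => by
    induction i with
    | zero => exact ha
    | succ i ih => rw [iterate_succ_apply']; exact hS _ ih
  intro b hb
  obtain ⟨i, -, rfl⟩ := mem_orb hb
  exact hmem i

theorem card_orb (f : α → α) (a : α) : (orb f a).card = minimalPeriod f a := by
  rw [orb, card_image_of_injOn, card_range]
  intro i hi j hj h
  exact iterate_injOn_Iio_minimalPeriod (mem_range.1 hi) (mem_range.1 hj) h

theorem orb_back {f : α → α} (hf : Injective f) {a b : α} (ha : a ∈ periodicPts f)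
    (hb : f b ∈ orb f a) : b ∈ orb f a := by
  obtain ⟨i, -, hi⟩ := mem_orb hb
  have hp := minimalPeriod_pos_of_mem_periodicPts ha
  have : b = f^[i + minimalPeriod f a - 1] a := by
    apply hf
    rw [← iterate_succ_apply' f, ← hi,
      show (i + minimalPeriod f a - 1).succ = i + minimalPeriod f a by omega,
      iterate_add_minimalPeriod_eq]
  rw [this]
  exact iterate_mem_orb ha _

/-- A finite invariant set splits into cycles. -/
theorem exists_periods {f : α → α} (hf : Injective f) (S : Finset α) (hS : ∀ a ∈ S, f a ∈ S) :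
    ∃ L : List ℕ, (∀ e ∈ L, 1 ≤ e) ∧ L.sum = S.card ∧ (∀ a ∈ S, ∃ e ∈ L, f^[e] a = a) ∧
      (L.length ≤ 1 → ∀ a ∈ S, ∀ b ∈ S, ∃ i, f^[i] a = b) ∧ (S.Nonempty → L ≠ []) := by
  induction S using Finset.strongInduction with
  | _ S ih =>
    rcases S.eq_empty_or_nonempty with rfl | ⟨a, ha⟩
    · exact ⟨[], by simp, by simp, by simp, by simp, by simp⟩
    have hper := mem_periodicPts_of_closed hf hS ha
    have hsub := orb_subset hS ha
    have haO : a ∈ orb f a := iterate_mem_orb hper 0
    have hlt : S \ orb f a ⊂ S := sdiff_ssubset hsub ⟨a, haO⟩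
    obtain ⟨L, hL1, hLs, hLp, hLlen, hLne⟩ := ih _ hlt fun b hb => by
      rw [mem_sdiff] at hb ⊢
      exact ⟨hS b hb.1, fun h => hb.2 (orb_back hf hper h)⟩
    refine ⟨minimalPeriod f a :: L, ?_, ?_, ?_, ?_, fun _ => List.cons_ne_nil _ _⟩
    · intro e he
      rcases List.mem_cons.1 he with rfl | he
      · exact minimalPeriod_pos_of_mem_periodicPts hper
      · exact hL1 e he
    · rw [List.sum_cons, hLs, ← card_orb f a, ← card_sdiff_add_card_eq_card hsub, Nat.add_comm]
    · intro b hb
      by_cases hbO : b ∈ orb f a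
      · obtain ⟨i, -, rfl⟩ := mem_orb hbO
        refine ⟨_, List.mem_cons_self, ?_⟩
        rw [← iterate_add_apply, Nat.add_comm, iterate_add_minimalPeriod_eq]
      · obtain ⟨e, he, h⟩ := hLp b (mem_sdiff.2 ⟨hb, hbO⟩)
        exact ⟨e, List.mem_cons_of_mem _ he, h⟩
    · intro hlen b hb c hc
      simp only [List.length_cons] at hlen
      have hL : L = [] := List.length_eq_zero_iff.1 (by omega)
      have hall : ∀ x ∈ S, x ∈ orb f a := fun x hx => by
        by_contra h
        exact hLne ⟨x, mem_sdiff.2 ⟨hx, h⟩⟩ hL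
      obtain ⟨i, hi, rfl⟩ := mem_orb (hall b hb)
      obtain ⟨j, -, rfl⟩ := mem_orb (hall c hc)
      refine ⟨j + (minimalPeriod f a - i), ?_⟩
      rw [← iterate_add_apply, show j + (minimalPeriod f a - i) + i = j + minimalPeriod f a by omega,
        iterate_add_minimalPeriod_eq]

variable {K : Type*} [Field K] [DecidableEq K]

omit [DecidableEq K] in
theorem iterate_pow_fun (q : ℕ) (a : K) (i : ℕ) : (fun x : K => x ^ q)^[i] a = a ^ q ^ i := by
  induction i with
  | zero => simp
  | succ i ih => rw [iterate_succ_apply', ih, ← pow_mul, ← pow_succ]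

omit [DecidableEq K] in
theorem iterate_inv_pow_fun (q : ℕ) (a : K) (i : ℕ) :
    (fun x : K => (x ^ q)⁻¹)^[i] a = if Even i then a ^ q ^ i else (a ^ q ^ i)⁻¹ := by
  induction i with
  | zero => simp
  | succ i ih =>
    rw [iterate_succ_apply', ih]
    by_cases h : Even i
    · rw [if_pos h, if_neg (by simpa [Nat.even_add_one] using h), ← pow_mul, ← pow_succ]
    · rw [if_neg h, if_pos (by simpa [Nat.even_add_one] using h), inv_pow, inv_inv, ← pow_mul,
        ← pow_succ]

/-- A finite set invariant under `x ↦ x ^ q` and inversion, without fixed points of inversion. -/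
theorem exists_selfrec {q : ℕ} (hq : 1 ≤ q) (hf : Injective fun x : K => x ^ q) (S : Finset K)
    (h0 : (0 : K) ∉ S) (hS : ∀ a ∈ S, a ^ q ∈ S) (hinv : ∀ a ∈ S, a⁻¹ ∈ S)
    (hne : ∀ a ∈ S, a⁻¹ ≠ a) :
    ∃ L : List (ℕ × ℕ), (∀ x ∈ L, 1 ≤ x.1 ∧ (x.2 = q ^ x.1 + 1 ∨ x.2 = q ^ x.1 - 1)) ∧
      2 * (L.map Prod.fst).sum = S.card ∧ (∀ a ∈ S, ∃ x ∈ L, a ^ x.2 = 1) := by
  induction S using Finset.strongInduction with
  | _ S ih =>
    rcases S.eq_empty_or_nonempty with rfl | ⟨a, ha⟩
    · exact ⟨[], by simp, by simp, by simp⟩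
    set f := fun x : K => x ^ q with hfdef
    have hper := mem_periodicPts_of_closed hf hS ha
    have hppos := minimalPeriod_pos_of_mem_periodicPts hper
    have hfix : a ^ q ^ minimalPeriod f a = a := by
      rw [← iterate_pow_fun, ← hfdef, iterate_minimalPeriod]
    have ha0 : a ≠ 0 := fun h => h0 (h ▸ ha)
    set O := orb f a with hO
    set O' := O.image fun x => x⁻¹ with hO'
    have hOS : O ⊆ S := orb_subset hS ha
    have hO'S : O' ⊆ S := image_subset_iff.2 fun x hx => hinv x (hOS hx)
    have haO : a ∈ O := iterate_mem_orb hper 0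
    obtain ⟨L, hL1, hLs, hLp⟩ := ih (S \ (O ∪ O')) (sdiff_ssubset (union_subset hOS hO'S)
        ⟨a, mem_union_left _ haO⟩) (fun h => h0 (mem_sdiff.1 h).1)
      (fun b hb => by
        rw [mem_sdiff] at hb ⊢
        refine ⟨hS b hb.1, fun h => hb.2 ?_⟩
        rcases mem_union.1 h with h | h
        · exact mem_union_left _ (orb_back hf hper h)
        · obtain ⟨x, hx, he⟩ := mem_image.1 h
          refine mem_union_right _ (mem_image.2 ⟨b⁻¹, orb_back hf hper ?_, inv_inv b⟩)
          show b⁻¹ ^ q ∈ O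
          rw [inv_pow, ← he, inv_inv]
          exact hx)
      (fun b hb => by
        rw [mem_sdiff] at hb ⊢
        refine ⟨hinv b hb.1, fun h => hb.2 ?_⟩
        rcases mem_union.1 h with h | h
        · exact mem_union_right _ (mem_image.2 ⟨b⁻¹, h, inv_inv b⟩)
        · obtain ⟨x, hx, he⟩ := mem_image.1 h
          exact mem_union_left _ (inv_injective he ▸ hx))
      (fun b hb => hne b (mem_sdiff.1 hb).1)
    have hcard : (O ∪ O').card + (S \ (O ∪ O')).card = S.card := by
      rw [Nat.add_comm, card_sdiff_add_card_eq_card (union_subset hOS hO'S)]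
    have hkey : ∀ k : ℕ, a ^ k = 1 → ∀ b ∈ O ∪ O', b ^ k = 1 := by
      intro k hk b hb
      have hb' : ∀ x ∈ O, x ^ k = 1 := fun x hx => by
        obtain ⟨i, -, rfl⟩ := mem_orb hx
        rw [hfdef, iterate_pow_fun, ← pow_mul, mul_comm, pow_mul, hk, one_pow]
      rcases mem_union.1 hb with h | h
      · exact hb' b h
      · obtain ⟨x, hx, rfl⟩ := mem_image.1 h
        rw [inv_pow, hb' x hx, inv_one]
    suffices h : ∃ x : ℕ × ℕ, 1 ≤ x.1 ∧ (x.2 = q ^ x.1 + 1 ∨ x.2 = q ^ x.1 - 1) ∧
        2 * x.1 = (O ∪ O').card ∧ a ^ x.2 = 1 by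
      obtain ⟨x, hx1, hx2, hx3, hx4⟩ := h
      refine ⟨x :: L, ?_, ?_, ?_⟩
      · intro y hy
        rcases List.mem_cons.1 hy with rfl | hy
        · exact ⟨hx1, hx2⟩
        · exact hL1 y hy
      · rw [List.map_cons, List.sum_cons, Nat.mul_add, hLs, hx3, hcard]
      · intro b hb
        by_cases hbO : b ∈ O ∪ O'
        · exact ⟨x, List.mem_cons_self, hkey _ hx4 b hbO⟩
        · obtain ⟨y, hy, h⟩ := hLp b (mem_sdiff.2 ⟨hb, hbO⟩)
          exact ⟨y, List.mem_cons_of_mem _ hy, h⟩
    by_cases hsame : a⁻¹ ∈ O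
    · obtain ⟨j, hj, hja⟩ := mem_orb hsame
      rw [hfdef, iterate_pow_fun] at hja
      have h2 : f^[j + j] a = a := by
        rw [hfdef, iterate_pow_fun, pow_add, pow_mul, hja, inv_pow, hja, inv_inv]
      have hdvd := (IsPeriodicPt.minimalPeriod_dvd (h2 : IsPeriodicPt f (j + j) a))
      have hj0 : j ≠ 0 := by
        rintro rfl
        exact hne a ha (by simpa using hja.symm)
      have hjj : minimalPeriod f a = j + j := by
        obtain ⟨t, ht⟩ := hdvd
        rcases t with _ | _ | t
        · omega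
        · omega
        · have : minimalPeriod f a * 2 ≤ j + j := by rw [ht]; exact Nat.mul_le_mul_left _ (by omega)
          omega
      refine ⟨(j, q ^ j + 1), by show 1 ≤ j; omega, Or.inl rfl, ?_, ?_⟩
      · have : O' ⊆ O := image_subset_iff.2 fun x hx => by
          obtain ⟨i, -, rfl⟩ := mem_orb hx
          rw [hfdef, iterate_pow_fun, ← inv_pow, ← hja, ← pow_mul, ← pow_add, ← iterate_pow_fun q]
          exact iterate_mem_orb hper _
        rw [union_eq_left.2 this, hO, card_orb]
        show 2 * j = _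
        omega
      · rw [pow_succ, hja, inv_mul_cancel₀ ha0]
    · refine ⟨(minimalPeriod f a, q ^ minimalPeriod f a - 1), hppos, Or.inr rfl, ?_, ?_⟩
      · have hd : Disjoint O O' := by
          rw [disjoint_left]
          intro x hx hx'
          obtain ⟨y, hy, rfl⟩ := mem_image.1 hx'
          obtain ⟨i, hi, rfl⟩ := mem_orb hy
          apply hsame
          -- apply the iterate sending `f^[i] a` back to `a`
          have e : a⁻¹ = f^[minimalPeriod f a - i] (f^[i] a)⁻¹ := by
            rw [hfdef, iterate_pow_fun, iterate_pow_fun, inv_pow, ← pow_mul, ← pow_add,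
              show i + (minimalPeriod (fun x : K => x ^ q) a - i) =
                minimalPeriod (fun x : K => x ^ q) a from Nat.add_sub_cancel' hi.le]
            rw [← hfdef, hfix]
          obtain ⟨j, -, hj⟩ := mem_orb hx
          rw [e, ← hj, ← iterate_add_apply]
          exact iterate_mem_orb hper _
        rw [card_union_of_disjoint hd, hO', card_image_of_injective _ inv_injective, hO, card_orb]
        show 2 * _ = _
        omega
      · refine mul_left_cancel₀ ha0 ?_
        rw [← pow_succ', Nat.sub_add_cancel (Nat.one_le_pow _ _ hq), hfix, mul_one]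

end CfsgLib.ElemOrder
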