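import Cfsg.Agent.Lib.ElemOrder.Matrix

/-!
From scalar powers of matrices to element orders modulo the centre.
-/

set_option autoImplicit false
set_option linter.unusedSectionVars false

namespace CfsgLib.ElemOrder

open Matrix

variable {F : Type*} [Field F] {n : Type*} [Fintype n] [DecidableEq n]

theorem exists_prime_pow [Fintype F] : ∃ (p s : ℕ) (_ : Fact p.Prime) (_ : CharP F p),
    1 ≤ s ∧ Fintype.card F = p ^ s := by
  obtain ⟨p, hc⟩ := CharP.exists F
  obtain ⟨s, hp, hs⟩ := FiniteField.card F p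
  exact ⟨p, s, ⟨hp⟩, hc, s.2, hs⟩

theorem id_frob [Fintype F] {p s : ℕ} (hs : Fintype.card F = p ^ s) (x : F) :
    RingHom.id F x = x ^ p ^ s := by rw [← hs, FiniteField.pow_card]; rfl

theorem orderOf_mk_center_le {G : Type*} [Group G] (toMat : G →* Matrix n n F)
    (hinj : Function.Injective toMat) (g : G) {N : ℕ} (hN : 0 < N)
    (h : toMat g ^ N = 1 ∨ toMat g ^ N = scalar n (-1)) :
    orderOf (g : G ⧸ Subgroup.center G) ≤ N := by
  apply orderOf_le_of_pow_eq_one hN
  rw [← QuotientGroup.mk_pow, QuotientGroup.eq_one_iff, Subgroup.mem_center_iff]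
  intro x
  apply hinj
  rw [map_mul, map_mul, map_pow]
  rcases h with h | h <;> rw [h]
  · rw [one_mul, mul_one]
  · exact (scalar_commute (-1 : F) (fun _ => Commute.all _ _) (toMat x)).eq.symm

end CfsgLib.ElemOrder
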