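import Cfsg.Agent.Lib.ElemOrder.Quotient
import Cfsg.Agent.Lib.AutPSL.Structure

/-!
Powers of `delta g * T` in `Aut(PSL_n(F))`.
-/

set_option autoImplicit false
set_option linter.unusedSectionVars false

namespace CfsgLib.ElemOrder

open Matrix CfsgLib.AutPSL Function
open scoped MatrixGroups

variable {n : ℕ} {F : Type*} [Field F]

/-- The twisted product `g · t g · ⋯ · t^(i-1) g`. -/
def twistProd {G : Type*} [Group G] (t : G →* G) (g : G) : ℕ → G
  | 0 => 1
  | i + 1 => twistProd t g i * t^[i] g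

section TwistProd

variable {G : Type*} [Group G] (t : G →* G) (g : G)

theorem twistProd_succ' (i : ℕ) : twistProd t g (i + 1) = g * t (twistProd t g i) := by
  induction i with
  | zero => simp [twistProd]
  | succ i ih =>
    show twistProd t g (i + 1) * t^[i + 1] g = g * t (twistProd t g i * t^[i] g)
    rw [ih, map_mul, mul_assoc, iterate_succ_apply']

theorem twistProd_add (a b : ℕ) :
    twistProd t g (a + b) = twistProd t g a * t^[a] (twistProd t g b) := by
  induction b with
  | zero => simp [twistProd]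
  | succ b ih =>
    rw [← Nat.add_assoc, twistProd, ih, twistProd, iterate_map_mul, ← iterate_add_apply, mul_assoc]

theorem isConj_iterate_twistProd {N : ℕ} (hN : t^[N] g = g) (i : ℕ) :
    IsConj (t^[i] (twistProd t g N)) (twistProd t g N) := by
  have h : t (twistProd t g N) = g⁻¹ * twistProd t g N * g := by
    rw [mul_assoc, eq_inv_mul_iff_mul_eq, ← twistProd_succ', twistProd, hN]
  induction i with
  | zero => exact IsConj.refl _
  | succ i ih =>
    rw [iterate_succ_apply', ← isConj_comm]
    refine (isConj_comm.1 ?_).trans (t.map_isConj (isConj_comm.1 ih))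
    rw [h]
    exact isConj_iff.2 ⟨g, by group⟩

end TwistProd

theorem pow_delta_mul (t : GL (Fin n) F →* GL (Fin n) F) (T : MulAut PSL(n, F))
    (hT : ∀ x, T * delta x = delta (t x) * T) (g : GL (Fin n) F) (i : ℕ) :
    (delta g * T) ^ i = delta (twistProd t g i) * T ^ i := by
  induction i with
  | zero => simp [twistProd]
  | succ i ih =>
    rw [pow_succ, ih, twistProd, map_mul]
    have : ∀ j, T ^ j * delta g = delta (t^[j] g) * T ^ j := by
      intro j
      induction j with
      | zero => simp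
      | succ j jh =>
        rw [pow_succ', mul_assoc, jh, ← mul_assoc, hT, iterate_succ_apply', mul_assoc]
    rw [mul_assoc, ← mul_assoc (T ^ i), this, mul_assoc, mul_assoc, ← pow_succ]

theorem mapGL_coe (σ : F ≃+* F) (g : GL (Fin n) F) :
    (mapGL σ g : Matrix (Fin n) (Fin n) F) = (g : Matrix (Fin n) (Fin n) F).map σ := rfl

theorem mapGL_mul (σ τ : F ≃+* F) (g : GL (Fin n) F) : mapGL (σ * τ) g = mapGL σ (mapGL τ g) :=
  Units.ext (Matrix.ext fun _ _ => rfl)

theorem mapGL_one (g : GL (Fin n) F) : mapGL (1 : F ≃+* F) g = g :=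
  Units.ext (Matrix.ext fun _ _ => rfl)

theorem iterate_mapGL (σ : F ≃+* F) (g : GL (Fin n) F) (i : ℕ) :
    (mapGL σ)^[i] g = mapGL (σ ^ i) g := by
  induction i with
  | zero => simp [mapGL_one]
  | succ i ih => rw [iterate_succ_apply', ih, ← mapGL_mul, ← pow_succ']

theorem contra_mul (g h : GL (Fin n) F) : contra (g * h) = contra g * contra h :=
  Units.ext (by
    show (((g * h)⁻¹ : GL (Fin n) F) : Matrix (Fin n) (Fin n) F)ᵀ = _
    rw [_root_.mul_inv_rev, Units.val_mul, Matrix.transpose_mul]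
    rfl)

/-- Inverse-transpose as a homomorphism. -/
def contraHom : GL (Fin n) F →* GL (Fin n) F := MonoidHom.mk' contra contra_mul

theorem contra_contra (g : GL (Fin n) F) : contra (contra g) = g :=
  Units.ext (by
    show ((g : Matrix (Fin n) (Fin n) F)ᵀ)ᵀ = _
    exact Matrix.transpose_transpose _)

theorem contra_mapGL (σ : F ≃+* F) (g : GL (Fin n) F) : contra (mapGL σ g) = mapGL σ (contra g) :=
  Units.ext (by
    show (((mapGL σ g)⁻¹ : GL (Fin n) F) : Matrix (Fin n) (Fin n) F)ᵀ = _
    rw [← map_inv, mapGL_coe, mapGL_coe]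
    rfl)

/-- The endomorphism of `GL_n(F)` belonging to `fieldAut σ * graphAut`. -/
def graphTwist (σ : F ≃+* F) : GL (Fin n) F →* GL (Fin n) F := (mapGL σ).comp contraHom

theorem iterate_graphTwist (σ : F ≃+* F) (g : GL (Fin n) F) (i : ℕ) :
    (graphTwist σ)^[i] g = if Even i then mapGL (σ ^ i) g else mapGL (σ ^ i) (contra g) := by
  induction i with
  | zero => simp [mapGL_one]
  | succ i ih =>
    rw [iterate_succ_apply', ih]
    show mapGL σ (contra _) = _
    by_cases h : Even i
    · rw [if_pos h, if_neg (by simpa [Nat.even_add_one] using h), contra_mapGL, ← mapGL_mul,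
        ← pow_succ']
    · rw [if_neg h, if_pos (by simpa [Nat.even_add_one] using h), contra_mapGL, contra_contra,
        ← mapGL_mul, ← pow_succ']

theorem graph_mul_delta (σ : F ≃+* F) (x : GL (Fin n) F) :
    fieldAut σ * graphAut * delta x = delta (graphTwist σ x) * (fieldAut σ * graphAut : MulAut PSL(n, F)) := by
  rw [mul_assoc, graphAut_mul_delta, ← mul_assoc, fieldAut_mul_delta, mul_assoc]
  rfl

theorem charpoly_eq_of_isConj {A B : GL (Fin n) F} (h : IsConj A B) :
    (A : Matrix (Fin n) (Fin n) F).charpoly = (B : Matrix (Fin n) (Fin n) F).charpoly := by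
  obtain ⟨c, rfl⟩ := isConj_iff.1 h
  rw [Units.val_mul, Units.val_mul, Matrix.coe_units_inv, Matrix.charpoly_units_conj]

theorem charpoly_contra (g : GL (Fin n) F) :
    (contra g : Matrix (Fin n) (Fin n) F).charpoly = ((g : Matrix (Fin n) (Fin n) F)⁻¹).charpoly := by
  show (((g⁻¹ : GL (Fin n) F) : Matrix (Fin n) (Fin n) F)ᵀ).charpoly = _
  rw [Matrix.charpoly_transpose, Matrix.coe_units_inv]

theorem det_contra (g : GL (Fin n) F) :
    (contra g : Matrix (Fin n) (Fin n) F).det = ((g : Matrix (Fin n) (Fin n) F).det)⁻¹ := by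
  show (((g⁻¹ : GL (Fin n) F) : Matrix (Fin n) (Fin n) F)ᵀ).det = _
  rw [Matrix.det_transpose, Matrix.coe_units_inv, Matrix.det_nonsing_inv, Ring.inverse_eq_inv']

theorem det_gl_ne_zero (g : GL (Fin n) F) : (g : Matrix (Fin n) (Fin n) F).det ≠ 0 :=
  ((Matrix.isUnit_iff_isUnit_det _).1 g.isUnit).ne_zero

theorem delta_eq_one_of_pow_scalar (g : GL (Fin n) F) {N : ℕ} {r : F}
    (h : (g : Matrix (Fin n) (Fin n) F) ^ N = scalar (Fin n) r) : delta g ^ N = 1 := by
  rw [← map_pow]
  refine delta_eq_one_of_mem_center (Subgroup.mem_center_iff.2 fun x => Units.ext ?_)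
  rw [Units.val_mul, Units.val_mul, Units.val_pow_eq_pow_val, h]
  exact (scalar_commute r (Commute.all r) _).symm.eq

/-- Every automorphism of a finite field is a power of a Frobenius of the fixed field. -/
theorem exists_frob (p : ℕ) [hp : Fact p.Prime] [CharP F p] [Fintype F] (σ : F ≃+* F) :
    ∃ s i : ℕ, 1 ≤ s ∧ Fintype.card F = (p ^ s) ^ orderOf σ ∧ Nat.Coprime (orderOf σ) i ∧
      ∀ x : F, (σ ^ i) x = x ^ p ^ s := by
  obtain ⟨f, -, hf⟩ := FiniteField.card F p
  set φ : F ≃+* F := frobeniusEquiv F p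
  have : Finite (F ≃+* F) := Finite.of_injective _ DFunLike.coe_injective
  have hφ : ∀ (j : ℕ) (x : F), (φ ^ j) x = x ^ p ^ j := by
    intro j
    induction j with
    | zero => intro x; simp
    | succ j ih =>
      intro x
      rw [pow_succ', RingAut.mul_apply, ih, frobeniusEquiv_apply, frobenius_def, ← pow_mul,
        ← pow_succ]
  have hcard := (card_ringAut_isCyclic (F := F) hf f.2).2
  have hφf : φ ^ (f : ℕ) = 1 := RingEquiv.ext fun x => by
    rw [hφ, ← hf, FiniteField.pow_card]; rfl
  have hord : orderOf φ = f := by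
    refine (orderOf_eq_iff f.2).2 ⟨hφf, fun j hj hj0 hh => ?_⟩
    have hp2 := hp.out.two_le
    have hpj : 1 < p ^ j := Nat.one_lt_pow (by omega) hp2
    have hle : Fintype.card F ≤ p ^ j := by
      have hne : (Polynomial.X ^ p ^ j - Polynomial.X : Polynomial F) ≠ 0 :=
        FiniteField.X_pow_card_sub_X_ne_zero F hpj
      have h2 : (Finset.univ : Finset F).val ≤ (Polynomial.X ^ p ^ j - Polynomial.X : Polynomial F).roots :=
        (Multiset.le_iff_subset (Finset.nodup _)).2 fun x _ => (Polynomial.mem_roots hne).2 (by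
          have := RingEquiv.congr_fun hh x
          rw [hφ] at this
          simp [this])
      have h3 := (Multiset.card_le_card h2).trans (Polynomial.card_roots' _)
      rwa [Finset.card_val, Finset.card_univ, FiniteField.X_pow_card_sub_X_natDegree_eq F hpj] at h3
    rw [hf] at hle
    exact absurd ((Nat.pow_le_pow_iff_right hp2).1 hle) (Nat.not_le.2 hj)
  have htop : Subgroup.zpowers φ = ⊤ :=
    Subgroup.eq_top_of_card_eq _ (by rw [Nat.card_zpowers, hord, hcard])
  obtain ⟨j, hj⟩ : ∃ j : ℕ, φ ^ j = σ :=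
    (mem_powers_iff_mem_zpowers (x := φ)).2 (htop ▸ Subgroup.mem_top σ)
  set s := Nat.gcd f j
  have hs1 : 1 ≤ s := Nat.gcd_pos_of_pos_left _ f.2
  have hm : orderOf σ = f / s := by rw [← hj, orderOf_pow, hord]
  have hsf : s * orderOf σ = f := by rw [hm, Nat.mul_div_cancel' (Nat.gcd_dvd_left _ _)]
  have hmem : φ ^ s ∈ Subgroup.zpowers σ := by
    have hle : Subgroup.zpowers σ ≤ Subgroup.zpowers (φ ^ s) := by
      obtain ⟨t, ht⟩ : s ∣ j := Nat.gcd_dvd_right _ _
      rw [Subgroup.zpowers_le, ← hj, ht, pow_mul]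
      exact Subgroup.pow_mem _ (Subgroup.mem_zpowers _) t
    rw [Subgroup.eq_of_le_of_card_ge hle (le_of_eq (by
      rw [Nat.card_zpowers, Nat.card_zpowers, hm, orderOf_pow, hord,
        Nat.gcd_eq_right (Nat.gcd_dvd_left _ _)]))]
    exact Subgroup.mem_zpowers _
  obtain ⟨i, hi⟩ := (mem_powers_iff_mem_zpowers (x := σ)).2 hmem
  refine ⟨s, i, hs1, by rw [← pow_mul, hsf]; exact hf, ?_, fun x => by
    rw [show σ ^ i = φ ^ s from hi, hφ]⟩
  have h1 : orderOf (σ ^ i) = orderOf σ := by
    rw [show σ ^ i = φ ^ s from hi, orderOf_pow, hord, Nat.gcd_eq_right (Nat.gcd_dvd_left _ _), hm]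
  rw [orderOf_pow] at h1
  have hpos : 0 < orderOf σ := orderOf_pos σ
  exact (Nat.div_eq_self.1 h1).resolve_left hpos.ne'

end CfsgLib.ElemOrder
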