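import Cfsg.Agent.Lib.ElemOrder.Bounds

/-!
A sharp exponent bound, modulo scalars, for multisets of roots of unitary matrices.
-/

set_option autoImplicit false
set_option linter.unusedSectionVars false

namespace CfsgLib.ElemOrder.Unit

open Function Finset

/-- `q ^ e - (-1) ^ e`. -/
def AA (q e : ℕ) : ℕ := if Even e then q ^ e - 1 else q ^ e + 1

/-- Its quotient by `q + 1`. -/
def GG (q e : ℕ) : ℕ := AA q e / (q + 1)

theorem dvd_AA (q : ℕ) : ∀ e : ℕ, q + 1 ∣ AA q e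
  | 0 => by simp [AA]
  | 1 => by simp [AA]
  | e + 2 => by
    have ih := dvd_AA q e
    unfold AA at ih ⊢
    rcases q.eq_zero_or_pos with rfl | hq
    · simp
    have h1 : 1 ≤ q ^ e := Nat.one_le_pow _ _ hq
    have h2 : 1 ≤ q ^ 2 := Nat.one_le_pow _ _ hq
    have hd : q + 1 ∣ q ^ 2 - 1 := ⟨q - 1, by
      have := Nat.sq_sub_sq q 1
      rwa [one_pow] at this⟩
    by_cases he : Even e
    · rw [if_pos he] at ih
      rw [if_pos (he.add (by decide : Even 2))]
      have e1 : q ^ (e + 2) - 1 = q ^ 2 * (q ^ e - 1) + (q ^ 2 - 1) := by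
        zify [h1, h2, Nat.one_le_pow (e + 2) q hq]; ring
      rw [e1]
      exact dvd_add (ih.mul_left _) hd
    · rw [if_neg he] at ih
      rw [if_neg (fun h => he ((Nat.even_add.1 h).2 (by decide)))]
      have e1 : q ^ (e + 2) + 1 + (q ^ 2 - 1) = q ^ 2 * (q ^ e + 1) := by
        zify [h2]; ring
      exact (Nat.dvd_add_left hd).1 (e1 ▸ ih.mul_left _)

theorem GG_mul (q e : ℕ) : (q + 1) * GG q e = AA q e := Nat.mul_div_cancel' (dvd_AA q e)

theorem AA_le (q e : ℕ) : AA q e ≤ q ^ e + 1 := by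
  unfold AA; split_ifs <;> omega

theorem one_le_AA {q e : ℕ} (hq : 2 ≤ q) (he : 1 ≤ e) : 1 ≤ AA q e := by
  unfold AA
  have : 2 ≤ q ^ e := le_trans hq (Nat.le_self_pow (by omega) q)
  split_ifs <;> omega

theorem one_le_GG {q e : ℕ} (hq : 2 ≤ q) (he : 1 ≤ e) : 1 ≤ GG q e :=
  Nat.pos_of_ne_zero fun h => by
    have := GG_mul q e; rw [h, mul_zero] at this; have := one_le_AA hq he; omega

theorem GG_le {q e : ℕ} (hq : 2 ≤ q) (he : 1 ≤ e) : GG q e ≤ q ^ (e - 1) := by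
  obtain ⟨e, rfl⟩ : ∃ j, e = j + 1 := ⟨e - 1, by omega⟩
  have h1 := GG_mul q (e + 1)
  have h2 := AA_le q (e + 1)
  have h3 := Nat.one_le_pow e q (by omega)
  rw [pow_succ] at h2
  rw [Nat.add_sub_cancel]
  by_contra h
  push Not at h
  have := Nat.mul_le_mul_left (q + 1) h
  nlinarith

theorem GG_one {q : ℕ} : GG q 1 = 1 := by
  simp [GG, AA]

theorem GG_two {q : ℕ} (hq : 1 ≤ q) : GG q 2 = q - 1 := by
  have := Nat.sq_sub_sq q 1
  rw [one_pow] at this
  rw [GG, AA, if_pos (by decide), this, Nat.mul_div_cancel_left _ (by omega)]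

theorem prod_GG_le {q : ℕ} (hq : 2 ≤ q) : ∀ L : List ℕ, (∀ e ∈ L, 1 ≤ e) → L ≠ [] →
    (L.map (GG q)).prod ≤ q ^ (L.sum - 1)
  | [], _, h => absurd rfl h
  | [e], hL, _ => by simpa using GG_le hq (hL e List.mem_cons_self)
  | e :: e' :: L, hL, _ => by
    rw [List.map_cons, List.prod_cons, List.sum_cons]
    have h1 := hL e List.mem_cons_self
    have h2 : 1 ≤ (e' :: L).sum := le_trans (hL e' (by simp)) (by simp)
    calc _ ≤ q ^ (e - 1) * q ^ ((e' :: L).sum - 1) := Nat.mul_le_mul (GG_le hq h1)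
          (prod_GG_le hq _ (fun x hx => hL x (List.mem_cons_of_mem _ hx)) (List.cons_ne_nil _ _))
      _ ≤ _ := by rw [← pow_add]; exact Nat.pow_le_pow_right (by omega) (by omega)

theorem top_bound {q d : ℕ} (hq : 2 ≤ q) (hd : 3 ≤ d) : (q + 1) * q ^ (d - 3) ≤ q ^ (d - 1) - 1 := by
  obtain ⟨j, rfl⟩ : ∃ j, d = j + 3 := ⟨d - 3, by omega⟩
  simp only [Nat.add_sub_cancel, show j + 3 - 1 = j + 2 from rfl]
  have h1 := Nat.one_le_pow j q (by omega)
  rw [pow_succ, pow_succ]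
  have : (q + 1) * q ^ j + 1 ≤ q ^ j * q * q := by nlinarith [Nat.mul_le_mul h1 hq, Nat.mul_le_mul_left (q ^ j) (Nat.mul_le_mul hq hq)]
  omega

theorem single_top {q d : ℕ} (hq : 2 ≤ q) (hd : 3 ≤ d) : GG q d ≤ q ^ (d - 1) - 1 := by
  obtain ⟨j, rfl⟩ : ∃ j, d = j + 3 := ⟨d - 3, by omega⟩
  have h1 := GG_mul q (j + 3)
  have h2 := AA_le q (j + 3)
  have h3 := Nat.one_le_pow j q (by omega)
  simp only [show j + 3 - 1 = j + 2 from rfl]
  rw [pow_succ] at h2
  have hX : 4 ≤ q ^ (j + 2) := by rw [pow_succ, pow_succ]; exact Nat.mul_le_mul (Nat.mul_le_mul h3 hq) hq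
  have hXq : q + 2 ≤ q ^ (j + 2) := by
    rw [pow_succ, pow_succ]
    exact le_trans (show q + 2 ≤ 1 * 2 * q by omega) (Nat.mul_le_mul (Nat.mul_le_mul h3 hq) le_rfl)
  by_contra h
  push Not at h
  have := Nat.mul_le_mul_left (q + 1) (show q ^ (j + 2) ≤ GG q (j + 3) by omega)
  nlinarith

/-- Two cycles of length at least two. -/
theorem two_top {q a b : ℕ} (hq : 2 ≤ q) (ha : 2 ≤ a) (hb : 2 ≤ b) :
    (q + 1) * GG q a * GG q b ≤ q ^ (a + b - 1) - 1 := by
  have base : ∀ e, 2 ≤ e → (q + 1) * GG q 2 * GG q e ≤ q ^ (e + 1) - 1 := fun e he => by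
    rw [mul_comm (q + 1), mul_assoc, GG_mul, GG_two (by omega)]
    have h2 := AA_le q e
    have h3 : q ≤ q ^ e := Nat.le_self_pow (by omega) q
    obtain ⟨r, rfl⟩ : ∃ r, q = r + 1 := ⟨q - 1, by omega⟩
    rw [Nat.add_sub_cancel, pow_succ]
    have := Nat.mul_le_mul_left r h2
    have : r * ((r + 1) ^ e + 1) + 1 ≤ (r + 1) ^ e * (r + 1) := by nlinarith
    omega
  by_cases ha2 : a = 2
  · subst ha2; rw [show 2 + b - 1 = b + 1 by omega]; exact base b hb
  by_cases hb2 : b = 2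
  · subst hb2; rw [mul_right_comm, show a + 2 - 1 = a + 1 by omega]; exact base a ha
  obtain ⟨i, rfl⟩ : ∃ i, a = i + 3 := ⟨a - 3, by omega⟩
  obtain ⟨j, rfl⟩ : ∃ j, b = j + 3 := ⟨b - 3, by omega⟩
  rw [show i + 3 + (j + 3) - 1 = i + j + 5 by omega]
  have e1 : (q + 1) * ((q + 1) * GG q (i + 3) * GG q (j + 3)) = AA q (i + 3) * AA q (j + 3) := by
    rw [← GG_mul, ← GG_mul]; ring
  have e2 := Nat.mul_le_mul (AA_le q (i + 3)) (AA_le q (j + 3))
  have hi := Nat.one_le_pow i q (by omega)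
  have hj := Nat.one_le_pow j q (by omega)
  by_contra h
  push Not at h
  have e3 := Nat.mul_le_mul_left (q + 1) (show q ^ (i + j + 5) ≤ (q + 1) * GG q (i + 3) * GG q (j + 3) by omega)
  rw [e1] at e3
  have e4 := e3.trans e2
  simp only [pow_add] at e4
  have q2 : 4 ≤ q ^ 2 := by nlinarith
  have q3 : 8 ≤ q ^ 3 := by nlinarith
  have a1 : q ^ i * q ^ 3 ≤ q ^ i * q ^ j * q ^ 3 := Nat.mul_le_mul_right _ (Nat.le_mul_of_pos_right _ hj)
  have a2 : q ^ j * q ^ 3 ≤ q ^ i * q ^ j * q ^ 3 := Nat.mul_le_mul_right _ (Nat.le_mul_of_pos_left _ hi)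
  have a3 : 1 ≤ q ^ i * q ^ j := Nat.mul_pos hi hj
  nlinarith [Nat.mul_le_mul a3 q3, Nat.mul_le_mul_left (q ^ i * q ^ j * q ^ 3) q2]

theorem add_le_mul' {e μ : ℕ} (he : 2 ≤ e) (hμ : 2 ≤ μ) : e + μ ≤ e * μ := by
  obtain ⟨i, rfl⟩ : ∃ i, e = i + 2 := ⟨e - 2, by omega⟩
  obtain ⟨j, rfl⟩ : ∃ j, μ = j + 2 := ⟨μ - 2, by omega⟩
  nlinarith

theorem clog_small {p μ : ℕ} (hp : 2 ≤ p) (h : 4 ≤ μ ∨ (μ = 3 ∧ 3 ≤ p)) : Nat.clog p μ ≤ μ - 2 := by
  refine Nat.clog_le_of_le_pow ?_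
  rcases h with h | ⟨rfl, h⟩
  · obtain ⟨j, rfl⟩ : ∃ j, μ = j + 4 := ⟨μ - 4, by omega⟩
    refine le_trans ?_ (Nat.pow_le_pow_left hp _)
    rw [show j + 4 - 2 = j + 2 by omega]
    induction j with
    | zero => norm_num
    | succ j ih => rw [show j + 1 + 2 = j + 2 + 1 by omega, pow_succ]; have := ih (by omega); omega
  · simpa using h

variable {K : Type*} [Field K] [DecidableEq K]

theorem pow_AA {q e : ℕ} {a : K} (hq : 1 ≤ q) (ha : a ≠ 0) (h : (fun x : K => (x ^ q)⁻¹)^[e] a = a) :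
    a ^ AA q e = 1 := by
  rw [iterate_inv_pow_fun] at h
  unfold AA
  split_ifs at h ⊢ with hev
  · refine mul_left_cancel₀ ha ?_
    rw [← pow_succ', Nat.sub_add_cancel (Nat.one_le_pow _ _ hq), h, mul_one]
  · rw [pow_succ]
    nth_rw 2 [← h]
    exact mul_inv_cancel₀ (pow_ne_zero _ ha)

theorem count_orb {f : K → K} (hf : Injective f) {R : Multiset K} (h : R.map f = R) {a b : K} (hb : b ∈ orb f a) :
    R.count b = R.count a := by
  obtain ⟨i, -, rfl⟩ := mem_orb hb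
  clear hb
  induction i with
  | zero => rfl
  | succ i ih => rw [iterate_succ_apply', count_map_eq hf h, ih]

set_option maxHeartbeats 1000000 in
/-- The exponent bound. -/
theorem bound {p q d T : ℕ} (hp : 2 ≤ p) (hpq : p ≤ q) (hd : 3 ≤ d) (h32 : ¬ (d = 3 ∧ q = 2))
    (h2q : p = 2 → 2 < q → 4 ≤ q)
    (hT1 : q ^ (d - 1) - 1 ≤ T) (hT2 : AA q (d - 1) ≤ T) (hT3 : AA q (d - 2) * p ≤ T)
    (hT4 : p = 2 → AA q (d - 3) * 4 ≤ T)
    (hf : Injective fun a : K => (a ^ q)⁻¹) (R : Multiset K) (h0 : (0 : K) ∉ R)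
    (hψ : (R.map fun a => (a ^ q)⁻¹) = R) (hcard : R.card = d) :
    ∃ k c, ∃ lam : K, 0 < k ∧ lam ^ q ^ 2 = lam ∧ (∀ a, R.count a ≤ p ^ c) ∧ (∀ a ∈ R, a ^ k = lam) ∧
      k * p ^ c ≤ T := by
  classical
  obtain ⟨ψ, hψd⟩ : ∃ ψ : K → K, ψ = fun a => (a ^ q)⁻¹ := ⟨_, rfl⟩
  rw [← hψd] at hf hψ
  have hR : R ≠ 0 := fun h => by rw [h, Multiset.card_zero] at hcard; omega
  have hS : ∀ a ∈ R.toFinset, ψ a ∈ R.toFinset := mem_of_map_eq hψ
  have hper : ∀ a ∈ R.toFinset, a ∈ periodicPts ψ := fun a ha => mem_periodicPts_of_closed hf hS ha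
  have hne : ∀ a ∈ R.toFinset, a ≠ 0 := fun a ha h => h0 (h ▸ Multiset.mem_toFinset.1 ha)
  have hA : ∀ a ∈ R.toFinset, ∀ e, ψ^[e] a = a → a ^ AA q e = 1 := fun a ha e h =>
    pow_AA (by omega) (hne a ha) (hψd ▸ h)
  have hmin : ∀ a, ψ^[minimalPeriod ψ a] a = a := fun a => isPeriodicPt_minimalPeriod ψ a
  have hmem : ∀ a b, b ∈ orb ψ a → ψ^[minimalPeriod ψ a] b = b := fun a b hb => by
    obtain ⟨i, -, rfl⟩ := mem_orb hb
    rw [← iterate_add_apply, Nat.add_comm, iterate_add_minimalPeriod_eq]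
  obtain ⟨a, ha, hamax⟩ := exists_count_eq_maxMult hR
  obtain ⟨e, he⟩ : ∃ e, e = minimalPeriod ψ a := ⟨_, rfl⟩
  obtain ⟨μ, hμd⟩ : ∃ μ, μ = maxMult R := ⟨_, rfl⟩
  have he1 : 1 ≤ e := he ▸ minimalPeriod_pos_of_mem_periodicPts (hper a ha)
  have hμ : 1 ≤ μ := hμd ▸ hamax ▸ Multiset.one_le_count_iff_mem.2 (Multiset.mem_toFinset.1 ha)
  have hcnt : ∀ x, R.count x ≤ p ^ Nat.clog p μ := hμd ▸ count_le_pow_clog (by omega) R
  have hP : p ^ Nat.clog p μ ≤ q ^ (μ - 1) :=
    (Nat.pow_le_pow_right (by omega) (clog_le_pred hp hμ)).trans (Nat.pow_le_pow_left hpq _)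
  have hsub := orb_subset hS ha
  have hsum : R.card = ∑ x ∈ R.toFinset, R.count x := (Multiset.toFinset_sum_count_eq R).symm
  have horb : ∑ x ∈ orb ψ a, R.count x = e * μ := by
    rw [sum_congr rfl fun x hx => count_orb hf hψ hx, sum_const, card_orb, ← he, hamax, ← hμd, smul_eq_mul]
  by_cases h1 : R.toFinset ⊆ orb ψ a
  · -- one cycle
    have hd1 : e * μ = d := by rw [← horb, ← hcard, hsum, subset_antisymm h1 hsub]
    obtain ⟨lam, hlam⟩ : ∃ lam, lam = a ^ GG q e := ⟨_, rfl⟩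
    have hl1 : lam ^ (q + 1) = 1 := by
      rw [hlam, ← pow_mul, mul_comm, GG_mul]; exact hA a ha e (he ▸ hmin a)
    have hl0 : lam ≠ 0 := hlam ▸ pow_ne_zero _ (hne a ha)
    have hlψ : (lam ^ q)⁻¹ = lam := inv_eq_of_mul_eq_one_right (by rw [← pow_succ, hl1])
    refine ⟨GG q e, Nat.clog p μ, lam, one_le_GG (by omega) he1, ?_, hcnt, fun x hx => ?_, ?_⟩
    · rw [sq, pow_mul, show lam ^ q = lam⁻¹ from by rw [← hlψ, inv_inv, hlψ], inv_pow, hlψ]
    · obtain ⟨i, -, rfl⟩ := mem_orb (h1 (Multiset.mem_toFinset.2 hx))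
      clear hx
      induction i with
      | zero => exact hlam.symm
      | succ i ih =>
        rw [iterate_succ_apply', hψd]
        dsimp only
        rw [inv_pow, ← pow_mul, mul_comm, pow_mul, ← hψd, ih, hlψ]
    refine le_trans ?_ hT1
    by_cases hμ1 : μ = 1
    · rw [hμ1, mul_one] at hd1
      rw [hμ1, Nat.clog_one_right, pow_zero, mul_one, hd1]
      exact single_top (by omega) hd
    have top := top_bound (show 2 ≤ q by omega) hd
    by_cases he1' : e = 1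
    · rw [he1', one_mul] at hd1
      rw [he1', GG_one, one_mul, hd1]
      by_cases hd3 : d = 3
      · subst hd3
        have : Nat.clog p 3 ≤ 2 := Nat.clog_le_of_le_pow (by nlinarith)
        by_cases hp3 : 3 ≤ p
        · have : Nat.clog p 3 ≤ 1 := Nat.clog_le_of_le_pow (by simpa using hp3)
          have := Nat.pow_le_pow_right (show 1 ≤ p by omega) this
          rw [pow_one] at this
          rw [show 3 - 1 = 2 from rfl, sq]
          have : q + 1 ≤ q * q := by nlinarith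
          omega
        · obtain rfl : p = 2 := by omega
          have hq4 : 4 ≤ q := h2q rfl (by by_contra hh; exact h32 ⟨rfl, by omega⟩)
          have := Nat.pow_le_pow_right (show 1 ≤ 2 by omega) this
          rw [show 3 - 1 = 2 from rfl, sq q]
          have : 16 ≤ q * q := Nat.mul_le_mul hq4 hq4
          omega
      · have hc : p ^ Nat.clog p d ≤ q ^ (d - 2) :=
          (Nat.pow_le_pow_right (by omega) (clog_small hp (Or.inl (by omega)))).trans (Nat.pow_le_pow_left hpq _)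
        refine le_trans hc (le_trans ?_ top)
        rw [show d - 2 = d - 3 + 1 by omega, pow_succ, mul_comm]
        exact Nat.mul_le_mul_right _ (by omega)
    · have hem : e + μ ≤ d := hd1 ▸ add_le_mul' (by omega) (by omega)
      refine le_trans (Nat.mul_le_mul (GG_le (by omega) he1) hP) (le_trans ?_ top)
      rw [← pow_add]
      refine le_trans (Nat.pow_le_pow_right (by omega) (show e - 1 + (μ - 1) ≤ d - 3 + 1 by omega)) ?_
      rw [pow_succ, mul_comm]
      exact Nat.mul_le_mul_right _ (by omega)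
  -- at least two cycles
  obtain ⟨b, hb, hba⟩ := not_subset.1 h1
  obtain ⟨e', he'⟩ : ∃ e', e' = minimalPeriod ψ b := ⟨_, rfl⟩
  have he1b : 1 ≤ e' := he' ▸ minimalPeriod_pos_of_mem_periodicPts (hper b hb)
  obtain ⟨S', hS'⟩ : ∃ S', S' = (R.toFinset \ orb ψ a) \ orb ψ b := ⟨_, rfl⟩
  have hsubb : orb ψ b ⊆ R.toFinset \ orb ψ a := fun x hx => mem_sdiff.2 ⟨orb_subset hS hb hx, fun hxa => hba (by
    obtain ⟨i, -, rfl⟩ := mem_orb hx
    clear hx
    induction i with
    | zero => exact hxa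
    | succ i ih =>
      rw [iterate_succ_apply'] at hxa
      exact ih (orb_back hf (hper a ha) hxa))⟩
  have hclosed : ∀ x ∈ S', ψ x ∈ S' := fun x hx => by
    rw [hS', mem_sdiff, mem_sdiff] at hx ⊢
    exact ⟨⟨hS x hx.1.1, fun h => hx.1.2 (orb_back hf (hper a ha) h)⟩, fun h => hx.2 (orb_back hf (hper b hb) h)⟩
  obtain ⟨L, hL1, hLs, hLp, -, hLne⟩ := exists_periods hf S' hclosed
  obtain ⟨k, hk⟩ : ∃ k, k = (q + 1) * GG q e * GG q e' * (L.map (GG q)).prod := ⟨_, rfl⟩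
  have hLpos : 0 < (L.map (GG q)).prod := List.prod_pos fun x hx => by
    obtain ⟨j, hj, rfl⟩ := List.mem_map.1 hx; exact one_le_GG (by omega) (hL1 j hj)
  have hk0 : 0 < k := by
    rw [hk]
    exact Nat.mul_pos (Nat.mul_pos (Nat.mul_pos (by omega) (one_le_GG (by omega) he1)) (one_le_GG (by omega) he1b)) hLpos
  have hroot : ∀ x ∈ R, x ^ k = 1 := fun x hx => by
    have hx' := Multiset.mem_toFinset.2 hx
    obtain ⟨j, hj, hjd⟩ : ∃ j, ψ^[j] x = x ∧ AA q j ∣ k := by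
      by_cases h : x ∈ orb ψ a
      · exact ⟨e, he ▸ hmem a x h, GG_mul q e ▸ ⟨GG q e' * (L.map (GG q)).prod, by rw [hk]; ring⟩⟩
      by_cases h' : x ∈ orb ψ b
      · exact ⟨e', he' ▸ hmem b x h', GG_mul q e' ▸ ⟨GG q e * (L.map (GG q)).prod, by rw [hk]; ring⟩⟩
      obtain ⟨j, hj, hjx⟩ := hLp x (by rw [hS']; exact mem_sdiff.2 ⟨mem_sdiff.2 ⟨hx', h⟩, h'⟩)
      obtain ⟨t, ht⟩ := List.dvd_prod (List.mem_map_of_mem (f := GG q) hj)
      exact ⟨j, hjx, GG_mul q j ▸ ⟨GG q e * GG q e' * t, by rw [hk, ht]; ring⟩⟩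
    obtain ⟨t, rfl⟩ := hjd
    rw [pow_mul, hA x hx' j hj, one_pow]
  refine ⟨k, Nat.clog p μ, 1, hk0, one_pow _, hcnt, hroot, ?_⟩
  have hE : e + e' + S'.card = R.toFinset.card := by
    rw [hS', he, he', ← card_orb, ← card_orb ψ b, add_assoc, add_comm (orb ψ b).card,
      card_sdiff_add_card_eq_card hsubb, add_comm, card_sdiff_add_card_eq_card hsub]
  have top := top_bound (show 2 ≤ q by omega) hd
  by_cases hS0 : S' = ∅
  · -- exactly two
    rw [hS0, card_empty, add_zero] at hE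
    have hL : L = [] := by
      rcases L with _ | ⟨x, L⟩
      · rfl
      · have := hL1 x List.mem_cons_self; simp [hS0] at hLs; omega
    rw [hk, hL, List.map_nil, List.prod_nil, mul_one]
    have hd2 : e * μ + e' * R.count b = d := by
      rw [← hcard, hsum, ← sum_sdiff hsub, horb, add_comm, show R.toFinset \ orb ψ a = orb ψ b from
        subset_antisymm (sdiff_eq_empty_iff_subset.1 (hS' ▸ hS0)) hsubb,
        sum_congr rfl fun x hx => count_orb hf hψ hx, sum_const, card_orb, ← he', smul_eq_mul]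
    have hν : 1 ≤ R.count b := Multiset.one_le_count_iff_mem.2 (Multiset.mem_toFinset.1 hb)
    have hνμ : R.count b ≤ μ := hμd ▸ count_le_maxMult R b
    by_cases hμ1 : μ = 1
    · rw [hμ1] at hd2 ⊢
      have : R.count b = 1 := by omega
      rw [this, mul_one, mul_one] at hd2
      rw [Nat.clog_one_right, pow_zero, mul_one]
      rcases Nat.lt_or_ge e 2 with h | h
      · obtain rfl : e = 1 := by omega
        rw [GG_one, mul_one, GG_mul]
        rwa [show e' = d - 1 by omega]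
      rcases Nat.lt_or_ge e' 2 with h' | h'
      · obtain rfl : e' = 1 := by omega
        rw [GG_one, mul_one, GG_mul]
        rwa [show e = d - 1 by omega]
      refine le_trans (two_top (by omega) h h') ?_
      rwa [hd2]
    by_cases hsl : e + e' + μ ≤ d
    · refine le_trans ?_ (top.trans hT1)
      rw [mul_assoc (q + 1), mul_assoc (q + 1)]
      refine Nat.mul_le_mul_left _ (le_trans (Nat.mul_le_mul (Nat.mul_le_mul (GG_le (by omega) he1) (GG_le (by omega) he1b)) hP) ?_)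
      rw [← pow_add, ← pow_add]
      exact Nat.pow_le_pow_right (by omega) (by omega)
    -- a root of multiplicity μ, the others simple
    obtain rfl : e = 1 := by
      by_contra h
      have := add_le_mul' (show 2 ≤ e by omega) (show 2 ≤ μ by omega)
      have : e' * 1 ≤ e' * R.count b := Nat.mul_le_mul_left _ hν
      omega
    have : R.count b = 1 := by
      by_contra h
      have : e' * 2 ≤ e' * R.count b := Nat.mul_le_mul_left _ (by omega)
      omega
    rw [this, mul_one, one_mul] at hd2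
    rw [GG_one, mul_one, GG_mul, show e' = d - μ by omega]
    by_cases hμ2 : μ = 2
    · subst hμ2
      refine le_trans (Nat.mul_le_mul_left _ ?_) hT3
      conv_rhs => rw [← pow_one p]
      exact Nat.pow_le_pow_right (by omega) (Nat.clog_le_of_le_pow (by simpa using hp))
    by_cases hμ3 : μ = 3 ∧ p = 2
    · obtain ⟨rfl, rfl⟩ := hμ3
      refine le_trans (Nat.mul_le_mul_left _ ?_) (hT4 rfl)
      exact Nat.pow_le_pow_right (n := 2) (i := Nat.clog 2 3) (j := 2) (by omega) (Nat.clog_le_of_le_pow (by norm_num))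
    refine le_trans ?_ hT1
    have hc : p ^ Nat.clog p μ ≤ q ^ (μ - 2) :=
      (Nat.pow_le_pow_right (by omega) (clog_small hp (by omega))).trans (Nat.pow_le_pow_left hpq _)
    refine le_trans (Nat.mul_le_mul (AA_le q _) hc) ?_
    rw [add_mul, one_mul, ← pow_add]
    obtain ⟨j, hj⟩ : ∃ j, d = j + 3 := ⟨d - 3, by omega⟩
    have u1 : q ^ (d - μ + (μ - 2)) = q ^ j * q := by rw [← pow_succ]; congr 1; omega
    have u2 : q ^ (μ - 2) ≤ q ^ j := Nat.pow_le_pow_right (by omega) (by omega)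
    have u3 : q ^ (d - 1) = q ^ j * q * q := by rw [← pow_succ, ← pow_succ]; congr 1; omega
    rw [u1, u3]
    have := Nat.one_le_pow j q (by omega)
    have : q ^ j * q + q ^ j + 1 ≤ q ^ j * q * q := by nlinarith [Nat.mul_le_mul_left (q ^ j) (Nat.mul_le_mul (show 2 ≤ q by omega) (show 2 ≤ q by omega))]
    omega
  · -- at least three
    have hS1 : 1 ≤ S'.card := card_pos.2 (nonempty_iff_ne_empty.2 hS0)
    have hcard' : R.toFinset.card + (μ - 1) ≤ d := hcard ▸ hμd ▸ card_toFinset_add_le hR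
    refine le_trans ?_ (top.trans hT1)
    rw [hk, mul_assoc (q + 1), mul_assoc (q + 1), mul_assoc (q + 1)]
    refine Nat.mul_le_mul_left _ (le_trans (Nat.mul_le_mul (Nat.mul_le_mul (Nat.mul_le_mul (GG_le (by omega) he1) (GG_le (by omega) he1b))
      (prod_GG_le (by omega) L hL1 (hLne (nonempty_iff_ne_empty.2 hS0)))) hP) ?_)
    rw [← pow_add, ← pow_add, ← pow_add, hLs]
    exact Nat.pow_le_pow_right (by omega) (by omega)

end CfsgLib.ElemOrder.Unit
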